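import Cfsg.Agent.Lib.GW.Dne.Components.Fields
import Cfsg.Agent.Lib.GW.Dne.CommutingTori

/-!
# `OuterTorus`, `CoprimeTori` and the assembly of `Components`
-/

set_option autoImplicit false

namespace CfsgLib.GW.Dne.Comp

open Subgroup
open CfsgLib.GW.KFactsProof (q q_eq_one q_eq_q commute_iff img mem_img exists_of_mem_img mem_of_img Four IsLin shape ambient)
open CfsgLib.Signalizer (involution_sq involution_inv involution_ne_one)

universe u

variable {G : Type u} [Group G] [Finite G]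

omit [Finite G] in
theorem mem_of_odd_of_sq {X : Subgroup G} {y : G} (hy : y ^ 2 ∈ X) (ho : Odd (orderOf y)) : y ∈ X := by
  obtain ⟨m, hm⟩ := ho
  have h := pow_mem hy (m + 1)
  rwa [← pow_mul, show 2 * (m + 1) = orderOf y + 1 by omega, pow_succ, pow_orderOf_eq_one, one_mul] at h

theorem img_normal {X N : Subgroup G} (h : X ≤ normalizer (N : Set G)) : (img X N).Normal := by
  haveI : (N.subgroupOf X).Normal := normal_subgroupOf_of_le_normalizer h
  exact Subgroup.Normal.map inferInstance _ (QuotientGroup.mk'_surjective _)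

variable (σ : Hyp G)
include σ

theorem outerTorus : OuterTorus G := by
  intro X t u g i hF hns hi hiX hit hiN hY
  have hR := hF.rot
  set Y := X ⊔ zpowers i with hYdef
  have hXY : X ≤ Y := le_sup_left
  have hiY : i ∈ Y := mem_sup_right (mem_zpowers i)
  have hYN : Y ≤ normalizer (X : Set G) := sup_le le_normalizer (zpowers_le.2 hiN)
  have hoddX : ∀ y ∈ Y, Odd (orderOf y) → y ∈ X := by
    intro y hy ho
    refine mem_of_odd_of_sq ?_ ho
    rw [hYdef, sup_comm] at hy
    obtain ⟨p, hp, a, ha, rfl⟩ := (CfsgLib.Core.mem_sup_iff_mul (zpowers_le.2 hiN)).1 hy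
    have hpp : p * p = 1 := by
      obtain ⟨j, rfl⟩ := mem_zpowers_iff.1 hp
      rw [← (Commute.refl i).mul_zpow, involution_sq hi, one_zpow]
    rw [pow_two, show p * a * (p * a) = p * a * p⁻¹ * (p * p) * a by group, hpp, mul_one]
    exact mul_mem ((mem_normalizer_iff.1 (zpowers_le.2 hiN hp) a).1 ha) ha
  have hcY : core Y ≤ X := fun x hx => hoddX x (core_le Y hx) (odd_orderOf_of_mem (odd_core Y) hx)
  have hcX : core X ≤ core Y := (Sig.le_oddOf ((core_le X).trans hXY)
    (sup_le (le_normalizer_core X) (zpowers_le.2 (Sig.normalizer_le_oddOf X hiN))) (odd_core X) : core X ≤ Sig.oddOf Y)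
  have hFY : Fused Y t u g := ⟨hY, hXY hF.mem_t, hXY hF.mem_u, hXY hF.mem_g, hR⟩
  have hnsY : ¬ Group.IsSolvable (Y ⧸ Cfsg.oddCore Y) := by
    rw [← solvable_iff]
    intro h
    haveI := h
    exact hns (Group.isSolvable_of_isSolvable_injective (f := inclusion hXY) (inclusion_injective hXY))
  have hnot : q Y ⟨i, hiY⟩ ∉ img Y X := fun h => hiX (mem_of_img hcY hiY h)
  haveI := img_normal hYN
  have hne : img Y X ≠ ⊥ := fun e => involution_ne_one (orderOf_q hFY.mem_t hR.ht)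
    (mem_bot.1 (e ▸ mem_img hF.mem_t hFY.mem_t))
  rcases shape σ Y hY with h | h | ⟨F, L, e, h⟩ | h
  · haveI := h.isNilpotent
    exact absurd IsNilpotent.to_isSolvable hnsY
  · exact absurd (isSolvable_klein h) hnsY
  · have hLI : L ≤ img Y X := (top_linear h).le _ inferInstance hne
    have htL := (mem_top_fused hFY (top_linear h)).1
    obtain ⟨x, hx1, hxo, hxi, hxt⟩ := Lin.outer_torus (ambient σ Y) h (t := ⟨_, htL⟩)
      (by rw [Subgroup.orderOf_mk]; exact orderOf_q hFY.mem_t hR.ht) (orderOf_q hiY hi)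
      (q_commute hiY hFY.mem_t hit) (fun hh => hnot (hLI hh))
    obtain ⟨z, hz, hzY, hzx⟩ := exists_of_mem_img (hLI x.2)
    have hc : i * z * i⁻¹ * z⁻¹ ∈ core Y :=
      (commute_iff hiY hzY).1 (by rw [hzx]; exact hxi.symm)
    obtain ⟨y, hy, hyo, hyi, k, hk⟩ := exists_lift_odd (le_normalizer hiY) hi hzY
      (by rw [hzx, Subgroup.orderOf_coe]; exact hxo) hc
    have hyX : y ∈ X := hoddX y hy hyo
    set y' : G := y * (t * y⁻¹ * t⁻¹) with hy'
    have hy'X : y' ∈ X := mul_mem hyX (mul_mem (mul_mem hF.mem_t (inv_mem hyX)) (inv_mem hF.mem_t))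
    have hty' : t * y' * t⁻¹ = y'⁻¹ := by
      rw [hy', show t * (y * (t * y⁻¹ * t⁻¹)) * t⁻¹ = t * y * (t * y⁻¹ * (t * t)⁻¹) by group,
        involution_sq hR.ht, inv_one, mul_one]
      calc t * y * (t * y⁻¹) = t * y * (t⁻¹ * y⁻¹) := by rw [involution_inv hR.ht]
        _ = (y * (t * y⁻¹ * t⁻¹))⁻¹ := by group
    have hy'i : Commute y' i := hyi.mul_left ((hit.symm.mul_left hyi.inv_left).mul_left hit.symm.inv_left)
    obtain ⟨a, m, hm, hao⟩ := Nat.exists_eq_two_pow_mul_odd (orderOf_pos y').ne'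
    have hqy' : q Y ⟨y', hXY hy'X⟩ = (x : Y ⧸ Cfsg.oddCore Y) ^ 2 ^ (k + 1) := by
      rw [show (⟨y', hXY hy'X⟩ : Y) = ⟨y, hy⟩ * (⟨t, hFY.mem_t⟩ * ⟨y, hy⟩⁻¹ * ⟨t, hFY.mem_t⟩⁻¹) from rfl,
        map_mul, map_mul, map_mul, map_inv, map_inv, hk hy, hzx]
      have hxt' : q Y ⟨t, hFY.mem_t⟩ * (x : Y ⧸ Cfsg.oddCore Y) * (q Y ⟨t, hFY.mem_t⟩)⁻¹ =
          (x : Y ⧸ Cfsg.oddCore Y)⁻¹ := congrArg Subtype.val hxt
      have hx' : q Y ⟨t, hFY.mem_t⟩ * (x : Y ⧸ Cfsg.oddCore Y)⁻¹ * (q Y ⟨t, hFY.mem_t⟩)⁻¹ =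
          (x : Y ⧸ Cfsg.oddCore Y) := by
        rw [← conj_inv, hxt', inv_inv]
      rw [← inv_pow, ← conj_pow, hx', ← pow_add, pow_succ, mul_two]
    refine ⟨y' ^ 2 ^ a, pow_mem hy'X _, ?_, hy'i.pow_left _, by rw [← conj_pow, hty', inv_pow], fun hmem => hx1 ?_⟩
    · rw [orderOf_pow_of_dvd (pow_ne_zero _ two_ne_zero) (hao ▸ dvd_mul_right _ _), hao,
        Nat.mul_div_cancel_left _ (by positivity)]
      exact hm
    · have h1 := (q_one_iff (X := Y) (pow_mem (hXY hy'X) _)).2 (hcX hmem)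
      rw [show (⟨y' ^ 2 ^ a, pow_mem (hXY hy'X) _⟩ : Y) = ⟨y', hXY hy'X⟩ ^ 2 ^ a from rfl, map_pow, hqy',
        ← pow_mul, ← pow_add] at h1
      refine Subtype.ext (orderOf_eq_one_iff.1 (Nat.eq_one_of_dvd_coprimes
        ((Nat.coprime_two_right.2 (by rw [Subgroup.orderOf_coe]; exact hxo)).pow_right _) dvd_rfl
        (orderOf_dvd_of_pow_eq_one h1)))
  · exact absurd ((top_seven h.some).le _ inferInstance hne (mem_top _)) hnot

theorem coprimeTori : CoprimeTori G := by
  intro X Y t i e x r hY hXY hidx htY htX hiX ht hi hit hr hr2 heY hxY her hxr het hei hxi hxt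
  have hiY : i ∈ Y := hXY hiX
  haveI hn : (X.subgroupOf Y).Normal := normal_of_index_eq_two (show (X.subgroupOf Y).index = 2 from hidx)
  have hoddX : ∀ y ∈ Y, Odd (orderOf y) → y ∈ X := fun y hy ho =>
    mem_of_odd_of_sq (sq_mem_of_index_two (show (X.subgroupOf Y).index = 2 from hidx) ⟨y, hy⟩) ho
  have hcY : core Y ≤ X := fun y hy => hoddX y (core_le Y hy) (odd_orderOf_of_mem (odd_core Y) hy)
  have heo := odd_q heY (odd_orderOf_of_isRElt hr hr2 her)
  have hxo := odd_q hxY (odd_orderOf_of_isRElt hr hr2 hxr)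
  have hnot : q Y ⟨t, htY⟩ ∉ img Y X := fun h => htX (mem_of_img hcY htY h)
  haveI : (img Y X).Normal := Subgroup.Normal.map inferInstance _ (QuotientGroup.mk'_surjective _)
  have hne : img Y X ≠ ⊥ := fun e' => involution_ne_one (orderOf_q hiY hi)
    (mem_bot.1 (e' ▸ mem_img hiX hiY))
  rw [← q_one_iff heY, ← q_one_iff hxY]
  rcases shape σ Y hY with h | h | ⟨F, L, ψ, h⟩ | h
  · exact Or.inl (KFactsProof.eq_one_of_isPGroup_two h heo)
  · exact Or.inl (klein_eq_one h heo (orderOf_q htY ht) (q_commute heY htY het))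
  · have hLI : L ≤ img Y X := (top_linear h).le _ inferInstance hne
    have htL : q Y ⟨t, htY⟩ ∉ L := fun hh => hnot (hLI hh)
    have hiL : q Y ⟨i, hiY⟩ ∈ L := by
      by_contra hni
      have hmem := Lin.mul_mem_of_fld h
        ((ambient σ Y).fld_eq_one_of_sq h (involution_sq (orderOf_q hiY hi)))
        ((ambient σ Y).fld_eq_one_of_sq h (involution_sq (orderOf_q htY ht))) hni htL
      exact hnot ((Subgroup.mul_mem_cancel_left _ (mem_img hiX hiY)).1 (hLI hmem))
    have heL : q Y ⟨e, heY⟩ ∈ L := Lin.mem_of_inverted h heo (q_inverted hiY heY hei)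
    have hxL : q Y ⟨x, hxY⟩ ∈ L := Lin.mem_of_inverted h hxo (q_inverted htY hxY hxt)
    obtain ⟨k, hk⟩ := her
    obtain ⟨l, hl⟩ := hxr
    rcases Lin.coprime_tori (ambient σ Y) h hr hr2 (orderOf_q htY ht) htL (i' := ⟨_, hiL⟩)
      (by rw [Subgroup.orderOf_mk]; exact orderOf_q hiY hi) rfl (q_commute htY hiY hit.symm)
      (x := ⟨_, heL⟩) (y := ⟨_, hxL⟩)
      ⟨k, Subtype.ext (by
        show q Y ⟨e, heY⟩ ^ r ^ k = 1
        rw [← map_pow, show (⟨e, heY⟩ : Y) ^ r ^ k = 1 from Subtype.ext hk, map_one])⟩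
      ⟨l, Subtype.ext (by
        show q Y ⟨x, hxY⟩ ^ r ^ l = 1
        rw [← map_pow, show (⟨x, hxY⟩ : Y) ^ r ^ l = 1 from Subtype.ext hl, map_one])⟩
      (q_commute heY htY het) (Subtype.ext (q_commute hxY hiY hxi).eq) with h' | h'
    · exact Or.inl (congrArg Subtype.val h')
    · exact Or.inr (congrArg Subtype.val h')
  · exact absurd ((top_seven h.some).le _ inferInstance hne (mem_top _)) hnot

/-- All the component facts, from the numerical data. -/
theorem components (hN : CountData G) : Components G where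
  solvableLocal := solvableLocal σ
  normalCover := normalCover σ
  rotInverts := rotInverts σ
  torusCyclic := torusCyclic σ
  fieldTrivial := fieldTrivial σ
  outerTorus := outerTorus σ
  coprimeTori := coprimeTori σ
  commutingTori := commutingTori σ
  countData := hN

end CfsgLib.GW.Dne.Comp
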