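import Cfsg.Agent.Lib.GW.KFactsProof.Main
import Cfsg.Agent.Lib.GW.Dne.Basic
import Cfsg.Agent.Lib.Char.Burnside

/-!
# Proper subgroups modulo the core: tools for the component facts

Images of involutions and of fused four-groups in `X / O(X)`, centralisers in the solvable shape,
and the solvability dichotomy.
-/

set_option autoImplicit false

namespace CfsgLib.GW.Dne.Comp

open Subgroup
open CfsgLib.GW.KFactsProof (q q_eq_one q_eq_q img mem_img Four Ambient Klein Shape IsLin shape ambient)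
open CfsgLib.Known.AutPSL (PSL)
open CfsgLib.Signalizer (involution_sq involution_inv involution_ne_one orderOf_eq_two_of orderOf_conj)

universe u

section Shape

variable {K : Type*} [Group K] [Finite K]

omit [Finite K] in
theorem card_four_set {V : Subgroup K} (hV : Nat.card V = 4) (hexp : ∀ x ∈ V, x * x = 1) {v w : K}
    (hv : v ∈ V) (hw : w ∈ V) (hv1 : v ≠ 1) (hw1 : w ≠ 1) (hne : v ≠ w) :
    ∀ y ∈ V, y = 1 ∨ y = v ∨ y = w ∨ y = v * w := by
  have h1 : v * w ≠ 1 := fun e => hne ((eq_inv_of_mul_eq_one_left e).trans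
    (inv_eq_of_mul_eq_one_right (hexp w hw)))
  have h2 : v ≠ v * w := fun e => hw1 (left_eq_mul.1 e)
  have h3 : w ≠ v * w := fun e => hv1 (right_eq_mul.1 e)
  haveI : Finite V := Nat.finite_of_card_ne_zero (by omega)
  have hfin : (V : Set K).Finite := Set.toFinite _
  have hV' : (V : Set K) = {1, v, w, v * w} := by
    refine (Set.eq_of_subset_of_ncard_le ?_ ?_ hfin).symm
    · rintro x (rfl | rfl | rfl | rfl)
      exacts [one_mem V, hv, hw, mul_mem hv hw]
    · rw [← Nat.card_coe_set_eq, SetLike.coe_sort_coe, hV,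
        Set.ncard_insert_of_notMem (by simp [Ne.symm hv1, Ne.symm hw1, Ne.symm h1]) (Set.toFinite _),
        Set.ncard_insert_of_notMem (by simp [hne, h2]) (Set.toFinite _), Set.ncard_pair h3]
  intro y hy
  have hy' : y ∈ (V : Set K) := hy
  rw [hV'] at hy'
  exact hy'

/-- In the solvable shape an element of odd order centralises no involution. -/
theorem klein_eq_one (hK : Klein K) {k z : K} (hk : Odd (orderOf k)) (hz : orderOf z = 2)
    (hkz : Commute k z) : k = 1 := by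
  obtain ⟨⟨V, hVn, hV4, hexp, hC⟩, -, h24⟩ := hK
  by_contra hk1
  have hk3 : k ^ 3 = 1 := by
    have key : ∀ d < 25, d ∣ 24 → d % 2 = 1 → d = 1 ∨ d = 3 := by decide
    have hd : orderOf k ∣ 24 := (orderOf_dvd_natCard k).trans h24
    rcases key _ (Nat.lt_succ_of_le (Nat.le_of_dvd (by norm_num) hd)) hd (Nat.odd_iff.1 hk) with e | e
    · exact absurd (orderOf_eq_one_iff.1 e) hk1
    · exact e ▸ pow_orderOf_eq_one k
  have hnot : ∀ v ∈ V, v ≠ 1 → k * v * k⁻¹ ≠ v := by
    intro v hv hv1 hfix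
    have hkV : k ∈ V := hC ▸ mem_centralizer_iff.2 fun y hy => by
      by_cases hy1 : y = 1
      · rw [hy1, one_mul, mul_one]
      by_cases hyv : y = v
      · subst hyv; nth_rewrite 1 [← hfix]; group
      rcases card_four_set hV4 hexp hv hy hv1 hy1 (Ne.symm hyv) _ (hVn.conj_mem y hy k) with e | e | e | e
      · exact absurd (conj_eq_one_iff.1 e) hy1
      · exact absurd ((MulAut.conj k).injective (e.trans hfix.symm : k * y * k⁻¹ = k * v * k⁻¹)) hyv
      · nth_rewrite 1 [← e]; group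
      exfalso
      have e2 : k * (v * y) * k⁻¹ = y := by
        rw [show k * (v * y) * k⁻¹ = k * v * k⁻¹ * (k * y * k⁻¹) by group, hfix, e, ← mul_assoc,
          hexp v hv, one_mul]
      have e3 : k ^ 3 * y * (k ^ 3)⁻¹ = v * y := by
        calc k ^ 3 * y * (k ^ 3)⁻¹ = k * (k * (k * y * k⁻¹) * k⁻¹) * k⁻¹ := by
              rw [pow_succ, pow_two]; group
          _ = v * y := by rw [e, e2, e]
      rw [hk3, one_mul, inv_one, mul_one] at e3
      exact hv1 (right_eq_mul.1 e3)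
    refine hk1 (orderOf_eq_one_iff.1 (Nat.eq_one_of_dvd_coprimes (Nat.coprime_two_left.2 hk)
      (orderOf_dvd_of_pow_eq_one ?_) dvd_rfl))
    rw [pow_two]
    exact hexp k hkV
  have hzz := involution_sq hz
  by_cases hzV : z ∈ V
  · exact hnot z hzV (involution_ne_one hz) (by rw [hkz.eq, mul_inv_cancel_right])
  haveI : Finite V := Finite.of_injective _ V.subtype_injective
  obtain ⟨⟨v0, hv0⟩, hv01⟩ : ∃ v : V, v ≠ 1 := by
    by_contra hno
    push Not at hno
    haveI : Subsingleton V := ⟨fun a b => (hno a).trans (hno b).symm⟩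
    rw [Nat.card_of_subsingleton (1 : V)] at hV4
    norm_num at hV4
  have hv01' : v0 ≠ 1 := fun e => hv01 (Subtype.ext e)
  obtain ⟨v, hv, hv1, hzv⟩ : ∃ v ∈ V, v ≠ 1 ∧ z * v * z⁻¹ = v := by
    by_cases hf : z * v0 * z⁻¹ = v0
    · exact ⟨v0, hv0, hv01', hf⟩
    have hm := hVn.conj_mem v0 hv0 z
    refine ⟨v0 * (z * v0 * z⁻¹), mul_mem hv0 hm, fun e => hf ?_, ?_⟩
    · rw [mul_eq_one_iff_eq_inv] at e
      exact (inv_eq_iff_eq_inv.2 e).symm.trans (inv_eq_of_mul_eq_one_right (hexp v0 hv0))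
    · have hcm : v0 * (z * v0 * z⁻¹) = z * v0 * z⁻¹ * v0 :=
        mem_centralizer_iff.1 (hC.symm ▸ hm : z * v0 * z⁻¹ ∈ centralizer (V : Set K)) v0 hv0
      calc z * (v0 * (z * v0 * z⁻¹)) * z⁻¹ = z * v0 * z⁻¹ * (z * z * v0 * (z * z)⁻¹) := by group
        _ = v0 * (z * v0 * z⁻¹) := by rw [hzz, one_mul, inv_one, mul_one, hcm]
  refine hzV (hC ▸ mem_centralizer_iff.2 fun y hy => ?_)
  have hzc : Commute z v := mul_inv_eq_iff_eq_mul.1 hzv
  have hzk : Commute z (k * v * k⁻¹) := (hkz.symm.mul_right hzc).mul_right hkz.symm.inv_right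
  rcases card_four_set hV4 hexp hv (hVn.conj_mem v hv k) hv1 (fun e => hv1 (conj_eq_one_iff.1 e))
    (Ne.symm (hnot v hv hv1)) y hy with rfl | rfl | rfl | rfl
  · rw [one_mul, mul_one]
  · exact hzc.eq.symm
  · exact hzk.eq.symm
  · exact (hzc.mul_right hzk).eq.symm

theorem isSolvable_klein (hK : Klein K) : Group.IsSolvable K := by
  have key : ∀ d < 25, d ∣ 24 → ∃ i < 4, ∃ j < 2, d = 2 ^ i * 3 ^ j := by decide
  obtain ⟨i, -, j, -, e⟩ := key _ (Nat.lt_succ_of_le (Nat.le_of_dvd (by norm_num) hK.dvd)) hK.dvd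
  exact CfsgLib.Burnside.isSolvable_of_card_eq Nat.prime_two Nat.prime_three e

/-- The linear shape and `A₇` are not solvable. -/
theorem not_solvable_of_normal {L : Subgroup K} [L.Normal] {S : Type*} [Group S] [IsSimpleGroup S]
    (e : L ≃* S) (hS : ∃ a b : S, a * b ≠ b * a) : ¬ Group.IsSolvable K := by
  intro h
  haveI := h
  haveI : Group.IsSolvable S :=
    Group.isSolvable_of_surjective (f := e.toMonoidHom) e.surjective
  obtain ⟨a, b, hab⟩ := hS
  exact hab ((IsSimpleGroup.comm_iff_isSolvable (G := S)).2 inferInstance a b)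

end Shape

variable {G : Type u} [Group G] [Finite G] {X : Subgroup G}

omit [Finite G] in
theorem q_one_iff {x : G} (hx : x ∈ X) : q X ⟨x, hx⟩ = 1 ↔ x ∈ core X := q_eq_one hx

theorem orderOf_q {x : G} (hx : x ∈ X) (hx2 : orderOf x = 2) : orderOf (q X ⟨x, hx⟩) = 2 := by
  refine orderOf_eq_two_of (fun h1 => ?_) ?_
  · have h2 := orderOf_dvd_natCard (core X) ((q_one_iff hx).1 h1)
    rw [hx2] at h2
    exact (odd_core X).not_two_dvd_nat h2
  · rw [← map_mul, show (⟨x, hx⟩ : X) * ⟨x, hx⟩ = 1 from Subtype.ext (involution_sq hx2), map_one]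

theorem odd_q {x : G} (hx : x ∈ X) (ho : Odd (orderOf x)) : Odd (orderOf (q X ⟨x, hx⟩)) :=
  ho.of_dvd_nat ((orderOf_map_dvd (q X) ⟨x, hx⟩).trans (Subgroup.orderOf_mk x hx).dvd)

theorem four_q {t u : G} (ht : t ∈ X) (hu : u ∈ X) (ht2 : orderOf t = 2) (hu2 : orderOf u = 2) (hne : t ≠ u)
    (hc : Commute t u) : Four (q X ⟨t, ht⟩) (q X ⟨u, hu⟩) := by
  refine ⟨orderOf_q ht ht2, orderOf_q hu hu2, fun e => ?_, ?_⟩
  · have h1 := (q_eq_q ht hu).1 e
    rw [involution_inv hu2] at h1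
    have h2 : orderOf (t * u) = 2 := orderOf_eq_two_of (fun e' => hne (by
      rw [mul_eq_one_iff_eq_inv, involution_inv hu2] at e'; exact e')) (by
      rw [← pow_two, hc.mul_pow, pow_two, pow_two, involution_sq ht2, involution_sq hu2, one_mul])
    have h3 := orderOf_dvd_natCard (core X) h1
    rw [h2] at h3
    exact (odd_core X).not_two_dvd_nat h3
  · exact (show Commute (⟨t, ht⟩ : X) ⟨u, hu⟩ from Subtype.ext hc.eq).map (q X)

theorem solvable_iff : Group.IsSolvable X ↔ Group.IsSolvable (X ⧸ Cfsg.oddCore X) := by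
  constructor
  · intro h
    exact Group.isSolvable_of_surjective (f := q X) (QuotientGroup.mk'_surjective _)
  · intro h
    haveI : Group.IsSolvable (Cfsg.oddCore X) := CfsgLib.OddLocal.FTFinal.odd_order_solvable
      (Nat.coprime_two_right.1 (CfsgLib.Core.coprime_card_pPrimeCore 2 X))
    exact Group.isSolvable_of_ker_le_range (Cfsg.oddCore X).subtype (q X) (by simp)

/-- An element of odd order commuting with an involution modulo the core lifts. -/
theorem exists_lift_odd {t : G} (ht : t ∈ normalizer (X : Set G)) (ht2 : orderOf t = 2) {x : G}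
    (hx : x ∈ X) (ho : Odd (orderOf (q X ⟨x, hx⟩))) (hc : t * x * t⁻¹ * x⁻¹ ∈ core X) :
    ∃ y ∈ X, Odd (orderOf y) ∧ Commute y t ∧ ∃ k : ℕ, ∀ hy : y ∈ X, q X ⟨y, hy⟩ = q X ⟨x, hx⟩ ^ 2 ^ k := by
  have hxN : x ∈ normalizer (core X : Set G) := le_normalizer_core X hx
  obtain ⟨n, hn, hcn⟩ := CfsgLib.Core.exists_centralizing_in_coset (A := zpowers t) (N := core X)
    (zpowers_le.2 (Sig.normalizer_le_oddOf X ht))
    (by rw [Nat.card_zpowers, ht2]; exact Nat.coprime_two_left.2 (odd_core X))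
    (Or.inr (CfsgLib.OddLocal.FTFinal.odd_order_solvable (odd_core X))) (k := x) (fun b hb => by
      obtain ⟨j, rfl⟩ := mem_zpowers_iff.1 hb
      rw [← zpow_mod_orderOf, ht2]
      rcases Int.emod_two_eq j with e | e
      · simp [e]
      · have h := (mem_normalizer_iff''.1 hxN _).1 hc
        rw [show x⁻¹ * (t * x * t⁻¹ * x⁻¹) * x = x⁻¹ * (t * x * t⁻¹) by group] at h
        simpa [e] using h)
  set z := x * n with hz
  have hzX : z ∈ X := mul_mem hx (core_le X hn)
  have hqz : q X ⟨z, hzX⟩ = q X ⟨x, hx⟩ := by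
    rw [show (⟨z, hzX⟩ : X) = ⟨x, hx⟩ * ⟨n, core_le X hn⟩ from rfl, map_mul, (q_one_iff _).2 hn, mul_one]
  obtain ⟨a, m, hm, hzo⟩ := Nat.exists_eq_two_pow_mul_odd (orderOf_pos z).ne'
  refine ⟨z ^ 2 ^ a, pow_mem hzX _, ?_,
    ((commute_of_mem_centralizer' hcn).pow_left _), a, fun hy => ?_⟩
  · rw [orderOf_pow_of_dvd (pow_ne_zero _ two_ne_zero) (hzo ▸ dvd_mul_right _ _), hzo,
      Nat.mul_div_cancel_left _ (by positivity)]
    exact hm
  · rw [show (⟨z ^ 2 ^ a, hy⟩ : X) = ⟨z, hzX⟩ ^ 2 ^ a from rfl, map_pow, hqz]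
where
  commute_of_mem_centralizer' {z : G} (h : z ∈ centralizer (zpowers t : Set G)) : Commute z t :=
    (mem_centralizer_iff.1 h t (mem_zpowers t)).symm

/-- Commuting involutions congruent modulo an invariant odd subgroup are conjugate by its elements. -/
theorem exists_conj_four {O : Subgroup G} (hO : Odd (Nat.card O)) {t u a b : G}
    (htO : t ∈ normalizer (O : Set G)) (huO : u ∈ normalizer (O : Set G)) (ht : orderOf t = 2)
    (hu : orderOf u = 2) (ha : orderOf a = 2) (hb : orderOf b = 2) (htu : Commute t u) (hab : Commute a b)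
    (hat : a * t ∈ O) (hbu : b * u ∈ O) : ∃ o ∈ O, o * a * o⁻¹ = t ∧ o * b * o⁻¹ = u := by
  have root : ∀ {v w : G}, orderOf v = 2 → orderOf w = 2 → w * v ∈ O →
      ∃ d ∈ zpowers (w * v), d⁻¹ * w * d = v := by
    intro v w hv hw hwv
    have hinv : v * (w * v) * v⁻¹ = (w * v)⁻¹ := by
      rw [mul_inv_rev, involution_inv hv, involution_inv hw,
        show v * (w * v) * v = v * w * (v * v) by group, involution_sq hv, mul_one]
    obtain ⟨j, hj⟩ := odd_orderOf_of_mem hO hwv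
    set d : G := (w * v) ^ (j + 1) with hd
    have hdd : d * d = w * v := by
      rw [hd, ← pow_add, show j + 1 + (j + 1) = orderOf (w * v) + 1 by omega, pow_succ, pow_orderOf_eq_one,
        one_mul]
    have hdi : v * d * v⁻¹ = d⁻¹ := by rw [hd, ← conj_pow, hinv, inv_pow]
    refine ⟨d, pow_mem (mem_zpowers _) _, ?_⟩
    calc d⁻¹ * w * d = d⁻¹ * (w * v) * v⁻¹ * d := by group
      _ = d * (v⁻¹ * d * v) * v⁻¹ := by rw [← hdd]; group
      _ = d * (v * d * v⁻¹) * v⁻¹ := by rw [involution_inv hv]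
      _ = v := by rw [hdi, mul_inv_cancel, one_mul, involution_inv hv]
  obtain ⟨d, hd, hda⟩ := root ht ha hat
  have hdO : d ∈ O := (zpowers_le.2 hat) hd
  set b' : G := d⁻¹ * b * d with hb'
  have hb'o : orderOf b' = 2 := by
    rw [hb', show d⁻¹ * b * d = d⁻¹ * b * d⁻¹⁻¹ by group, orderOf_conj]; exact hb
  have hb't : Commute t b' := by
    rw [hb', ← hda]
    have := hab.map (MulAut.conj d⁻¹).toMonoidHom
    simpa using this
  have hb'u : b' * u ∈ O := by
    have hbN : b ∈ normalizer (O : Set G) := by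
      rw [show b = b * u * u⁻¹ by group]
      exact mul_mem (le_normalizer hbu) (inv_mem huO)
    rw [hb', show d⁻¹ * b * d * u = d⁻¹ * (b * d * b⁻¹) * (b * u) by group]
    exact mul_mem (mul_mem (inv_mem hdO) ((mem_normalizer_iff.1 hbN d).1 hdO)) hbu
  obtain ⟨e, he, heb⟩ := root hu hb'o hb'u
  have het : Commute e t := by
    obtain ⟨j, rfl⟩ := mem_zpowers_iff.1 he
    exact ((hb't.mul_right htu).symm).zpow_left j
  refine ⟨e⁻¹ * d⁻¹, mul_mem (inv_mem ((zpowers_le.2 hb'u) he)) (inv_mem hdO), ?_, ?_⟩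
  · rw [show e⁻¹ * d⁻¹ * a * (e⁻¹ * d⁻¹)⁻¹ = e⁻¹ * (d⁻¹ * a * d) * e by group, hda, mul_assoc, ← het.eq,
      inv_mul_cancel_left]
  · rw [show e⁻¹ * d⁻¹ * b * (e⁻¹ * d⁻¹)⁻¹ = e⁻¹ * (d⁻¹ * b * d) * e by group]
    exact heb

end CfsgLib.GW.Dne.Comp
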