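import Cfsg.Agent.Lib.GW.Dne.Components.Basic

/-!
# `SolvableLocal` and `NormalCover`
-/

set_option autoImplicit false

namespace CfsgLib.GW.Dne.Comp

open Subgroup DihedralGroup
open CfsgLib.GW.KFactsProof (q q_eq_one q_eq_q img mem_img exists_of_mem_img Four Ambient Klein Shape IsLin shape
  ambient)
open CfsgLib.Known.AutPSL (PSL)
open CfsgLib.Signalizer (involution_sq involution_inv involution_ne_one orderOf_eq_two_of orderOf_conj)

universe u

theorem psl_noncomm {F : Type*} [Field F] [Fintype F] (h4 : 4 ≤ Fintype.card F) :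
    ∃ a b : PSL 2 F, a * b ≠ b * a := by
  haveI := CfsgLib.Classical.isSimpleGroup_PSL_two h4
  by_contra hno
  push Not at hno
  have hc : center (PSL 2 F) = ⊤ := eq_top_iff.2 fun x _ => mem_center_iff.2 fun y => hno y x
  rw [CfsgLib.Known.BalancePSL.center_psl_bot le_rfl] at hc
  exact (bot_ne_top : (⊥ : Subgroup (PSL 2 F)) ≠ ⊤) hc

theorem alt_noncomm : ∃ a b : alternatingGroup (Fin 7), a * b ≠ b * a := by
  refine ⟨⟨Equiv.swap 0 1 * Equiv.swap 1 2, Equiv.Perm.mem_alternatingGroup.2 (by decide)⟩,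
    ⟨Equiv.swap 2 3 * Equiv.swap 3 4, Equiv.Perm.mem_alternatingGroup.2 (by decide)⟩, fun e => ?_⟩
  exact absurd (congrArg Subtype.val e : (Equiv.swap 0 1 * Equiv.swap 1 2 : Equiv.Perm (Fin 7)) *
    (Equiv.swap 2 3 * Equiv.swap 3 4) = Equiv.swap 2 3 * Equiv.swap 3 4 * (Equiv.swap 0 1 * Equiv.swap 1 2))
    (by decide)

section Shape

variable {n : ℕ} {K : Type*} [Group K] [Finite K]

/-- The common features of the non-solvable shapes. -/
structure Top (L : Subgroup K) : Prop where
  normal : L.Normal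
  simple : IsSimpleGroup L
  noncomm : ∃ a b : L, a * b ≠ b * a
  le : ∀ N : Subgroup K, N.Normal → N ≠ ⊥ → L ≤ N
  comm : ∀ a b : K, a * b * a⁻¹ * b⁻¹ ∈ L

theorem top_linear {F : Type*} [Field F] [Fintype F] {L : Subgroup K} [hn : L.Normal] {e : L ≃* PSL 2 F}
    (hK : IsLin L e) : Top L := by
  haveI := CfsgLib.Classical.isSimpleGroup_PSL_two hK.four_le
  obtain ⟨a, b, hab⟩ := psl_noncomm (F := F) hK.four_le
  refine ⟨hn, ?_, ⟨e.symm a, e.symm b, fun h => hab (e.symm.injective (by rw [map_mul, map_mul, h]))⟩,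
    fun N hN h1 => KFactsProof.le_of_normal hK hN h1, fun x y => KFactsProof.mem_of_inn hK ?_⟩
  · haveI : Nontrivial L := e.toEquiv.nontrivial
    exact IsSimpleGroup.isSimpleGroup_of_surjective e.symm.toMonoidHom e.symm.surjective
  · rw [map_mul, map_mul, map_mul, map_inv, map_inv]
    exact KFactsProof.commutator_mem_inn _ _

omit [Finite K] in
theorem top_seven (e : K ≃* alternatingGroup (Fin 7)) : Top (⊤ : Subgroup K) := by
  haveI := alternatingGroup.isSimpleGroup (α := Fin 7) (by simp)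
  haveI : Nontrivial K := e.toEquiv.nontrivial
  haveI : IsSimpleGroup K := IsSimpleGroup.isSimpleGroup_of_surjective e.symm.toMonoidHom e.symm.surjective
  obtain ⟨a, b, hab⟩ := alt_noncomm
  refine ⟨inferInstance, ?_, ⟨⟨e.symm a, mem_top _⟩, ⟨e.symm b, mem_top _⟩, fun h => hab
    (e.symm.injective (by rw [map_mul, map_mul]; exact congrArg Subtype.val h))⟩, fun N hN h1 => ?_,
    fun _ _ => mem_top _⟩
  · exact IsSimpleGroup.isSimpleGroup_of_surjective (topEquiv : (⊤ : Subgroup K) ≃* K).symm.toMonoidHom (topEquiv : (⊤ : Subgroup K) ≃* K).symm.surjective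
  · rw [(hN.eq_bot_or_eq_top).resolve_left h1]

theorem Top.not_solvable {L : Subgroup K} (hL : Top L) : ¬ Group.IsSolvable K :=
  haveI := hL.normal
  haveI := hL.simple
  not_solvable_of_normal (MulEquiv.refl L) hL.noncomm

/-- A four-group of the top rotated in `K` is rotated in the top. -/
theorem exists_rot_top (A : Ambient n K) {L : Subgroup K} (hL : Top L) {v w g : K} (h : Four v w)
    (hv : v ∈ L) (hw : w ∈ L) (h1 : g * v * g⁻¹ = w) (h2 : g * w * g⁻¹ = v * w) :
    ∃ l ∈ L, l * v * l⁻¹ = w ∧ l * w * l⁻¹ = v * w := by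
  classical
  haveI := hL.normal
  haveI := hL.simple
  haveI : Fact (Nat.Prime 2) := ⟨Nat.prime_two⟩
  have hvv := involution_sq h.hv
  have hww := involution_sq h.hw
  have hv1 := involution_ne_one h.hv
  have hw1 := involution_ne_one h.hw
  set T : Subgroup K := closure ({v, w} : Set K) with hT
  have hvT : v ∈ T := subset_closure (by simp)
  have hwT : w ∈ T := subset_closure (by simp)
  have hTeq : ∀ x ∈ T, x = 1 ∨ x = v ∨ x = w ∨ x = v * w := fun x hx =>
    mem_four_cases (t := v) (u := w) h.hv h.hw h.comm hx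
  have hTL : T ≤ L := (closure_le _).2 (by rintro x (rfl | rfl) <;> assumption)
  suffices hy : ∃ y ∈ L, (∀ x ∈ T, y * x * y⁻¹ ∈ T) ∧ ¬ (y * v * y⁻¹ = v ∧ y * w * y⁻¹ = w) by
    obtain ⟨y, hyL, hyT, hne⟩ := hy
    have hd : ∀ {x : K}, x ≠ 1 → y * x * y⁻¹ ≠ 1 := fun hx e => hx (conj_eq_one_iff.1 e)
    have hinj : ∀ {a b : K}, y * a * y⁻¹ = y * b * y⁻¹ → a = b := fun e => mul_left_cancel (mul_right_cancel e)
    have gi1 : g⁻¹ * v * g = v * w := by
      have : g * (v * w) * g⁻¹ = v := by
        rw [show g * (v * w) * g⁻¹ = g * v * g⁻¹ * (g * w * g⁻¹) by group, h1, h2, h.comm.eq, ← mul_assoc,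
          hww, one_mul]
      nth_rewrite 1 [← this]; group
    have gi2 : g⁻¹ * w * g = v := by nth_rewrite 1 [← h1]; group
    -- a transposition gives the rotation as a commutator with `g`
    have trans : y * (y * v * y⁻¹) * y⁻¹ = v → y * (y * w * y⁻¹) * y⁻¹ = w →
        y * (g * (y * (v * w) * y⁻¹) * g⁻¹) * y⁻¹ = w →
        y * (g * (y * v * y⁻¹) * g⁻¹) * y⁻¹ = v * w →
        ∃ l ∈ L, l * v * l⁻¹ = w ∧ l * w * l⁻¹ = v * w := by
      intro hh1 hh2 e1 e2
      have yi : ∀ x, y * (y * x * y⁻¹) * y⁻¹ = x → y⁻¹ * x * y = y * x * y⁻¹ := fun x hx => by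
        nth_rewrite 1 [← hx]; group
      refine ⟨y * g * y⁻¹ * g⁻¹, hL.comm y g, ?_, ?_⟩
      · rw [show y * g * y⁻¹ * g⁻¹ * v * (y * g * y⁻¹ * g⁻¹)⁻¹ =
          y * (g * (y⁻¹ * (g⁻¹ * v * g) * y) * g⁻¹) * y⁻¹ by group, gi1,
          show y⁻¹ * (v * w) * y = y⁻¹ * v * y * (y⁻¹ * w * y) by group, yi v hh1, yi w hh2,
          show y * v * y⁻¹ * (y * w * y⁻¹) = y * (v * w) * y⁻¹ by group]
        exact e1
      · rw [show y * g * y⁻¹ * g⁻¹ * w * (y * g * y⁻¹ * g⁻¹)⁻¹ =
          y * (g * (y⁻¹ * (g⁻¹ * w * g) * y) * g⁻¹) * y⁻¹ by group, gi2, yi v hh1]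
        exact e2
    have g3 : g * (v * w) * g⁻¹ = v := by
      rw [show g * (v * w) * g⁻¹ = g * v * g⁻¹ * (g * w * g⁻¹) by group, h1, h2, h.comm.eq, ← mul_assoc,
        hww, one_mul]
    have pr : y * (v * w) * y⁻¹ = y * v * y⁻¹ * (y * w * y⁻¹) := by group
    have hvvw : v * (v * w) = w := by rw [← mul_assoc, hvv, one_mul]
    have hwvw : w * (v * w) = v := by rw [h.comm.eq, ← mul_assoc, hww, one_mul]
    have hvwv : v * w * v = w := by rw [h.comm.eq, mul_assoc, hvv, mul_one]
    have hvww : v * w * w = v := by rw [mul_assoc, hww, mul_one]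
    rcases hTeq _ (hyT v hvT) with ev | ev | ev | ev
    · exact absurd ev (hd hv1)
    · rcases hTeq _ (hyT w hwT) with ew | ew | ew | ew
      · exact absurd ew (hd hw1)
      · exact absurd (hinj (ev.trans ew.symm)) h.ne
      · exact absurd ⟨ev, ew⟩ hne
      · refine trans (by rw [ev, ev]) (by rw [ew, pr, ev, ew, hvvw]) ?_ ?_
        · rw [pr, ev, ew, hvvw, h2, pr, ev, ew, hvvw]
        · rw [ev, h1, ew]
    · rcases hTeq _ (hyT w hwT) with ew | ew | ew | ew
      · exact absurd ew (hd hw1)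
      · refine trans (by rw [ev, ew]) (by rw [ew, ev]) ?_ ?_
        · rw [pr, ev, ew, ← h.comm.eq, g3, ev]
        · rw [ev, h2, pr, ev, ew, ← h.comm.eq]
      · exact absurd (hinj (ev.trans ew.symm)) h.ne
      · exact ⟨y, hyL, ev, ew⟩
    · rcases hTeq _ (hyT w hwT) with ew | ew | ew | ew
      · exact absurd ew (hd hw1)
      · refine ⟨y⁻¹, inv_mem hyL, ?_, ?_⟩
        · nth_rewrite 1 [← ew]; group
        · have : y * (v * w) * y⁻¹ = w := by rw [pr, ev, ew, hvwv]
          nth_rewrite 1 [← this]; group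
      · refine trans (by rw [ev, pr, ev, ew, hvww]) (by rw [ew, ew]) ?_ ?_
        · rw [pr, ev, ew, hvww, h1, ew]
        · rw [ev, g3, ev]
      · exact absurd (hinj (ev.trans ew.symm)) h.ne
  -- existence of a normalising element acting non-trivially
  have hT2 : IsPGroup 2 T := isPGroup_four h.hv h.hw h.comm
  obtain ⟨P, hP⟩ := (hT2.comap_of_injective L.subtype L.subtype_injective).exists_le_sylow
  change T.subgroupOf L ≤ (P : Subgroup L) at hP
  by_cases hPT : (P : Subgroup L) ≤ T.subgroupOf L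
  · by_contra hno
    push Not at hno
    have hNC : normalizer (P : Set L) ≤ centralizer (P : Set L) := by
      intro y hy
      have hconj : ∀ x ∈ T, (y : K) * x * (y : K)⁻¹ ∈ T := fun x hx =>
        hPT ((mem_normalizer_iff.1 hy ⟨x, hTL hx⟩).1 (hP hx))
      obtain ⟨e1, e2⟩ := hno y y.2 hconj
      refine mem_centralizer_iff.2 fun x hx => Subtype.ext ?_
      show (x : K) * y = y * x
      have hfix : ∀ z ∈ T, Commute (y : K) z := fun z hz => by
        rcases hTeq z hz with rfl | rfl | rfl | rfl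
        · exact Commute.one_right _
        · exact mul_inv_eq_iff_eq_mul.1 e1
        · exact mul_inv_eq_iff_eq_mul.1 e2
        · exact (show Commute (y : K) v from mul_inv_eq_iff_eq_mul.1 e1).mul_right
            (show Commute (y : K) w from mul_inv_eq_iff_eq_mul.1 e2)
      exact (hfix x (hPT hx)).eq.symm
    have hcomp := MonoidHom.ker_transferSylow_isComplement' P hNC
    rcases (inferInstance : (MonoidHom.transferSylow P hNC).ker.Normal).eq_bot_or_eq_top with hk | hk
    · rw [hk, Subgroup.isComplement'_bot_left] at hcomp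
      obtain ⟨a, b, hab⟩ := hL.noncomm
      have ha : a ∈ (P : Subgroup L) := hcomp ▸ mem_top a
      have hb : b ∈ (P : Subgroup L) := hcomp ▸ mem_top b
      have cT : ∀ x ∈ T, ∀ z ∈ T, Commute x z := fun x hx z hz => by
        rcases hTeq x hx with rfl | rfl | rfl | rfl <;> rcases hTeq z hz with rfl | rfl | rfl | rfl <;>
          first
            | exact Commute.one_left _
            | exact Commute.one_right _
            | exact Commute.refl _
            | exact h.comm
            | exact h.comm.symm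
            | exact (Commute.refl _).mul_right h.comm
            | exact h.comm.symm.mul_right (Commute.refl _)
            | exact ((Commute.refl _).mul_left h.comm.symm)
            | exact (h.comm.mul_left (Commute.refl _))
      exact hab (Subtype.ext (cT _ (hPT ha) _ (hPT hb)).eq)
    · rw [hk, Subgroup.isComplement'_top_left] at hcomp
      have : (⟨v, hv⟩ : L) ∈ (P : Subgroup L) := hP hvT
      rw [hcomp, mem_bot] at this
      exact hv1 (congrArg Subtype.val this)
  · have hlt : (T.subgroupOf L).subgroupOf (P : Subgroup L) < ⊤ := lt_top_iff_ne_top.2 fun e =>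
      hPT (subgroupOf_eq_top.1 e)
    haveI : Group.IsNilpotent (P : Subgroup L) := P.2.isNilpotent
    obtain ⟨y, hy, hyT⟩ := SetLike.exists_of_lt (Group.normalizerCondition_of_isNilpotent _ hlt)
    refine ⟨((y : L) : K), (y : L).2, fun x hx => ?_, fun ⟨e1, e2⟩ => ?_⟩
    · exact (mem_normalizer_iff.1 hy ⟨⟨x, hTL hx⟩, hP hx⟩).1 hx
    · obtain ⟨φ, hφ⟩ := A.emb ((P : Subgroup L).map L.subtype) (P.2.map _)
      set yK : K := ((y : L) : K)
      have hmem : ∀ x ∈ T, x ∈ (P : Subgroup L).map L.subtype := fun x hx => ⟨⟨x, hTL hx⟩, hP hx, rfl⟩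
      set y' : (P : Subgroup L).map L.subtype := ⟨yK, mem_map_of_mem _ y.2⟩
      set v' : (P : Subgroup L).map L.subtype := ⟨v, hmem v hvT⟩
      set w' : (P : Subgroup L).map L.subtype := ⟨w, hmem w hwT⟩
      have c1 : Commute yK v := mul_inv_eq_iff_eq_mul.1 e1
      have c2 : Commute yK w := mul_inv_eq_iff_eq_mul.1 e2
      have hy2 : yK * yK = 1 := by
        have hsr : (∀ i, φ y' ≠ r i) → yK * yK = 1 := fun hne => by
          rcases hc : φ y' with i | i
          · exact absurd hc (hne i)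
          · exact congrArg Subtype.val (hφ (show φ (y' * y') = φ 1 by
              rw [map_mul, map_one, hc, sr_mul_self]) : y' * y' = 1)
        by_contra hne2
        obtain ⟨i, hi⟩ : ∃ i, φ y' = r i := by
          by_contra hno
          push Not at hno
          exact hne2 (hsr hno)
        obtain ⟨z, hz, b, hb⟩ : ∃ z : (P : Subgroup L).map L.subtype, Commute (z : K) yK ∧ ∃ b, φ z = sr b := by
          rcases hcv : φ v' with a | a
          · rcases hcw : φ w' with b | b
            · exfalso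
              have sq : ∀ (x : (P : Subgroup L).map L.subtype) (c : ZMod (2 ^ n)), (x : K) * x = 1 → φ x = r c →
                  (x : K) ≠ 1 → c = CfsgLib.TwoGroups.half n := by
                intro x c hx hxc hx1
                refine (CfsgLib.TwoGroups.Dihedral.sq_eq_one_r A.pos
                  (by rw [← hxc, ← map_mul, show x * x = 1 from Subtype.ext hx, map_one])).resolve_left ?_
                intro hc
                exact hx1 (congrArg Subtype.val (hφ (hxc.trans (hc.trans (map_one φ).symm)) : x = 1))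
              refine h.ne (congrArg Subtype.val (hφ ?_ : v' = w'))
              rw [hcv, hcw, sq v' a hvv hcv hv1, sq w' b hww hcw hw1]
            · exact ⟨w', c2.symm, b, hcw⟩
          · exact ⟨v', c1.symm, a, hcv⟩
        have h' : φ y' * φ z = φ z * φ y' := by
          rw [← map_mul, ← map_mul, show y' * z = z * y' from Subtype.ext hz.eq.symm]
        rw [hi, hb, r_mul_sr, sr_mul_r, sr.injEq] at h'
        refine hne2 (congrArg Subtype.val (hφ ?_ : y' * y' = 1))
        rw [map_mul, map_one, hi, r_mul_r, show i + i = 0 by linear_combination -h']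
        rfl
      refine hyT ?_
      rcases A.three h hy2 c1.symm c2.symm with e | e | e | e <;>
        show (((y : L) : K)) ∈ T <;> rw [show ((y : L) : K) = _ from e]
      · exact one_mem T
      · exact hvT
      · exact hwT
      · exact mul_mem hvT hwT

end Shape

variable {G : Type u} [Group G] [Finite G] (σ : Hyp G)
include σ

/-- The non-solvable shapes. -/
theorem exists_top {X : Subgroup G} (hX : X ≠ ⊤) (hns : ¬ Group.IsSolvable X) :
    ∃ L : Subgroup (X ⧸ Cfsg.oddCore X), Top L := by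
  rw [solvable_iff] at hns
  rcases shape σ X hX with h | h | ⟨F, L, e, h⟩ | h
  · haveI := h.isNilpotent
    exact absurd IsNilpotent.to_isSolvable hns
  · exact absurd (isSolvable_klein h) hns
  · exact ⟨L, top_linear h⟩
  · exact ⟨⊤, top_seven h.some⟩

theorem solvableLocal : SolvableLocal G := by
  intro X t u g x hF hsol hxU hx
  obtain ⟨hxt, hxo⟩ := (σ.mem_U hF.rot.ht).1 hxU
  rw [← q_one_iff hx]
  rw [solvable_iff] at hsol
  rcases shape σ X hF.ne_top with h | h | ⟨F, L, e, h⟩ | h
  · exact KFactsProof.eq_one_of_isPGroup_two h (odd_q hx hxo)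
  · exact klein_eq_one h (odd_q hx hxo) (orderOf_q hF.mem_t hF.rot.ht)
      ((show Commute (⟨x, hx⟩ : X) ⟨t, hF.mem_t⟩ from Subtype.ext hxt.eq).map (q X))
  · exact absurd hsol (top_linear h).not_solvable
  · exact absurd hsol (top_seven h.some).not_solvable

theorem normalCover : NormalCover G := by
  intro X N t u g hF hns hNX hXN htN
  obtain ⟨L, hL⟩ := exists_top σ hF.ne_top hns
  have hR := hF.rot
  have huN : u ∈ N := hR.conj1 ▸ (mem_normalizer_iff.1 (hXN hF.mem_g) t).1 htN
  set tb := q X ⟨t, hF.mem_t⟩ with htb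
  set ub := q X ⟨u, hF.mem_u⟩ with hub
  set gb := q X ⟨g, hF.mem_g⟩ with hgb
  have h : Four tb ub := four_q hF.mem_t hF.mem_u hR.ht hR.hu hR.ne hR.comm
  have h1 : gb * tb * gb⁻¹ = ub := by
    rw [← map_inv, ← map_mul, ← map_mul]; exact congrArg (q X) (Subtype.ext hR.conj1)
  have h2 : gb * ub * gb⁻¹ = tb * ub := by
    rw [← map_inv, ← map_mul, ← map_mul, ← map_mul]; exact congrArg (q X) (Subtype.ext hR.conj2)
  have h12 : ub * tb ∈ L := by
    have := hL.comm gb tb
    rwa [h1, involution_inv h.hv] at this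
  haveI := hL.normal
  have htL : tb ∈ L := by
    have := Normal.conj_mem hL.normal _ h12 gb
    rwa [show gb * (ub * tb) * gb⁻¹ = gb * ub * gb⁻¹ * (gb * tb * gb⁻¹) by group, h2, h1, mul_assoc,
      involution_sq h.hw, mul_one] at this
  have huL : ub ∈ L := h1 ▸ Normal.conj_mem hL.normal _ htL gb
  obtain ⟨l, hlL, hl1, hl2⟩ := exists_rot_top (ambient σ X) hL h htL huL h1 h2
  haveI : (N.subgroupOf X).Normal := normal_subgroupOf_of_le_normalizer hXN
  have hNn : (img X N).Normal := Subgroup.Normal.map inferInstance _ (QuotientGroup.mk'_surjective _)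
  have hLN : L ≤ img X N := hL.le _ hNn fun e => involution_ne_one h.hv
    (mem_bot.1 (e ▸ mem_img htN hF.mem_t))
  obtain ⟨n, hn, hnX, rfl⟩ := exists_of_mem_img (hLN hlL)
  set a : G := n * t * n⁻¹ with ha
  set b : G := n * u * n⁻¹ with hb
  have hau : a * u ∈ core X := by
    have hm : a * u ∈ X := mul_mem (mul_mem (mul_mem hnX hF.mem_t) (inv_mem hnX)) hF.mem_u
    rw [← q_one_iff hm, show (⟨a * u, hm⟩ : X) = ⟨n, hnX⟩ * ⟨t, hF.mem_t⟩ * ⟨n, hnX⟩⁻¹ * ⟨u, hF.mem_u⟩ from rfl,
      map_mul, map_mul, map_mul, map_inv, hl1]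
    exact involution_sq h.hw
  have hbu : b * (t * u) ∈ core X := by
    have hm : b * (t * u) ∈ X :=
      mul_mem (mul_mem (mul_mem hnX hF.mem_u) (inv_mem hnX)) (mul_mem hF.mem_t hF.mem_u)
    rw [← q_one_iff hm, show (⟨b * (t * u), hm⟩ : X) =
        ⟨n, hnX⟩ * ⟨u, hF.mem_u⟩ * ⟨n, hnX⟩⁻¹ * (⟨t, hF.mem_t⟩ * ⟨u, hF.mem_u⟩) from rfl,
      map_mul, map_mul, map_mul, map_mul, map_inv, hl2]
    rw [← pow_two, h.comm.mul_pow, pow_two, pow_two, involution_sq h.hv, involution_sq h.hw, one_mul]
  have hnorm : ∀ z ∈ X, z ∈ N → z ∈ normalizer ((core X ⊓ N : Subgroup G) : Set G) := fun z hz hzN =>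
    mem_normalizer_of_conj fun y hy => ⟨(mem_normalizer_iff.1 (le_normalizer_core X hz) y).1 hy.1,
      N.mul_mem (N.mul_mem hzN hy.2) (N.inv_mem hzN)⟩
  have hanN : a ∈ N := mul_mem (mul_mem hn htN) (inv_mem hn)
  have hbnN : b ∈ N := mul_mem (mul_mem hn huN) (inv_mem hn)
  obtain ⟨o, ho, hoa, hob⟩ := exists_conj_four (O := core X ⊓ N) (t := u) (u := t * u) (a := a) (b := b)
    ((odd_core X).of_dvd_nat (card_dvd_of_le inf_le_left)) (hnorm u hF.mem_u huN)
    (hnorm _ (mul_mem hF.mem_t hF.mem_u) (mul_mem htN huN)) hR.hu hR.prod_order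
    (by rw [ha, orderOf_conj]; exact hR.ht) (by rw [hb, orderOf_conj]; exact hR.hu)
    hR.next.comm (hR.comm.map (MulAut.conj n).toMonoidHom)
    ⟨hau, mul_mem hanN huN⟩ ⟨hbu, mul_mem hbnN (mul_mem htN huN)⟩
  refine ⟨o * n, mul_mem ho.2 hn, hR.ht, hR.hu, hR.ne, hR.comm, ?_, ?_⟩
  · rw [show o * n * t * (o * n)⁻¹ = o * (n * t * n⁻¹) * o⁻¹ by group]; exact hoa
  · rw [show o * n * u * (o * n)⁻¹ = o * (n * u * n⁻¹) * o⁻¹ by group]; exact hob

end CfsgLib.GW.Dne.Comp
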