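import Cfsg.Agent.Lib.GW.Dne.Components.LinearTorus

/-!
# Field automorphisms on the torus of an involution

`field_trivial`: in the linear shape an `r`-subgroup centralising the involution `t` and normalised
by the odd elements of `C_L(t)` contains no non-trivial element centralising a second involution.
-/

set_option autoImplicit false

namespace CfsgLib.GW.Dne.Lin

open Subgroup Matrix
open CfsgLib.GW.KFactsProof
open CfsgLib.Known.AutPSL
open CfsgLib.GW.Dne.Tori
open CfsgLib.Signalizer (involution_sq involution_ne_one)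

/-- Arithmetic of an automorphism of order `r` of a cyclic group. -/
theorem dvd_prime_of_norm {r : ℕ} (hr : r.Prime) (hr2 : r ≠ 2) {d j A B : ℕ}
    (hd : d ∣ 2 ^ A * r ^ B) (h1 : (d : ℤ) ∣ (j : ℤ) ^ r - 1)
    (hS : (d : ℤ) ∣ ∑ i ∈ Finset.range r, (j : ℤ) ^ i) : d ∣ r := by
  haveI := Fact.mk hr
  have key : ∀ m : ℕ, (m : ℤ) ∣ (d : ℤ) → ((j : ZMod m) ^ r = 1) ∧ ∑ i ∈ Finset.range r, (j : ZMod m) ^ i = 0 := by
    intro m hm
    constructor
    · have := (ZMod.intCast_zmod_eq_zero_iff_dvd _ m).2 (hm.trans h1)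
      push_cast at this
      exact sub_eq_zero.1 this
    · have := (ZMod.intCast_zmod_eq_zero_iff_dvd _ m).2 (hm.trans hS)
      push_cast at this
      exact this
  have hodd : ¬ 2 ∣ d := by
    intro h2
    obtain ⟨e1, e2⟩ := key 2 (Int.natCast_dvd_natCast.2 h2)
    have hj : (j : ZMod 2) = 1 := by
      have h01 : ∀ x : ZMod 2, x = 0 ∨ x = 1 := by decide
      rcases h01 (j : ZMod 2) with e | e
      · rw [e, zero_pow hr.ne_zero] at e1
        exact absurd e1 zero_ne_one
      · exact e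
    simp only [hj, one_pow, Finset.sum_const, Finset.card_range, nsmul_eq_mul, mul_one] at e2
    rw [ZMod.natCast_eq_zero_iff_even] at e2
    exact hr2 (hr.even_iff.1 e2)
  have hd' : d ∣ r ^ B :=
    (Nat.Coprime.pow_right A ((Nat.prime_two.coprime_iff_not_dvd.2 hodd).symm)).dvd_of_dvd_mul_left hd
  obtain ⟨l, -, rfl⟩ := (Nat.dvd_prime_pow hr).1 hd'
  rcases Nat.lt_or_ge l 2 with hl | hl
  · exact (pow_dvd_pow r (show l ≤ 1 by omega)).trans (pow_one r).dvd
  exfalso
  obtain ⟨e1, e2⟩ := key (r ^ 2) (Int.natCast_dvd_natCast.2 (pow_dvd_pow r hl))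
  obtain ⟨e1', -⟩ := key r (Int.natCast_dvd_natCast.2 (dvd_pow_self r (by omega)))
  rw [ZMod.pow_card] at e1'
  obtain ⟨c, hc⟩ : ∃ c : ℤ, (j : ℤ) = 1 + r * c := by
    have := (ZMod.intCast_eq_intCast_iff_dvd_sub 1 (j : ℤ) r).1 (by push_cast; exact e1'.symm)
    obtain ⟨c, hc⟩ := this
    exact ⟨c, by linarith⟩
  set x : ZMod (r ^ 2) := (r : ZMod (r ^ 2)) * (c : ZMod (r ^ 2)) with hx
  have hj : (j : ZMod (r ^ 2)) = 1 + x := by
    have := congrArg (fun z : ℤ => (z : ZMod (r ^ 2))) hc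
    push_cast at this
    exact this
  have hxx : x * x = 0 := by
    have h0 : (r : ZMod (r ^ 2)) * r = 0 := by
      rw [← Nat.cast_mul, ← pow_two]; exact ZMod.natCast_self _
    rw [hx, show (r : ZMod (r ^ 2)) * c * (r * c) = r * r * (c * c) by ring, h0, zero_mul]
  have hp : ∀ i : ℕ, (1 + x) ^ i = 1 + (i : ZMod (r ^ 2)) * x := by
    intro i
    induction i with
    | zero => simp
    | succ i ih =>
      rw [pow_succ (1 + x) i, ih]
      push_cast
      linear_combination (i : ZMod (r ^ 2)) * hxx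
  rw [hj] at e2
  simp only [hp, Finset.sum_add_distrib, Finset.sum_const, Finset.card_range, nsmul_eq_mul, mul_one,
    ← Finset.sum_mul] at e2
  obtain ⟨m, hm⟩ := hr.odd_of_ne_two hr2
  have hsum : ∑ i ∈ Finset.range r, i = r * m := by
    have := Finset.sum_range_id_mul_two r
    rw [show r - 1 = 2 * m by omega] at this
    linarith
  rw [← Nat.cast_sum, hsum, Nat.cast_mul, hx,
    show (r : ZMod (r ^ 2)) * m * (r * c) = (r * r : ℕ) * (m * c) by push_cast; ring, ← pow_two,
    ZMod.natCast_self, zero_mul, add_zero, ZMod.natCast_eq_zero_iff] at e2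
  have := Nat.le_of_dvd hr.pos e2
  have := hr.two_le
  nlinarith

theorem add_mul_lt_pow {q₀ : ℕ} (h3 : 3 ≤ q₀) : ∀ r, 3 ≤ r → r * (q₀ + 1) + 1 < q₀ ^ r := by
  intro r hr
  induction r, hr using Nat.le_induction with
  | base => nlinarith [Nat.mul_le_mul h3 h3, Nat.mul_le_mul (Nat.mul_le_mul h3 h3) (le_refl q₀)]
  | succ r hr ih =>
    rw [pow_succ]
    nlinarith [Nat.mul_le_mul (le_refl (q₀ ^ r)) h3]

variable {F : Type*} [Field F] [Fintype F] {n : ℕ} {K : Type*} [Group K] [Finite K] {L : Subgroup K}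
  [hLn : L.Normal] {e : L ≃* PSL 2 F} (A : Ambient n K) (hK : IsLin L e)

omit [Fintype F] in
theorem eq_of_sq_fixed {σ : F ≃+* F} {r : ℕ} (hr : Odd r) (hσ : σ ^ r = 1) {x : F} (h : σ (σ x) = x) :
    σ x = x := by
  obtain ⟨m, rfl⟩ := hr
  have hm : ∀ m : ℕ, ((σ * σ) ^ m) x = x := by
    intro m
    induction m with
    | zero => rfl
    | succ m ih =>
      rw [pow_succ]
      show ((σ * σ) ^ m) (σ (σ x)) = x
      rw [h, ih]
  have h1 := congrArg (fun f : F ≃+* F => f x) hσ
  rw [show 2 * m + 1 = 1 + 2 * m by ring, pow_add, pow_one, pow_mul, pow_two] at h1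
  have h1' : σ (((σ * σ) ^ m) x) = x := h1
  rwa [hm] at h1'

include A hK in
theorem field_trivial {r : ℕ} [hr : Fact r.Prime] (hr2 : r ≠ 2) {Q : Subgroup K} (hQ : IsPGroup r Q)
    {t : L} (ht : orderOf t = 2) {u : K} (hu : orderOf u = 2) (hut : Commute u (t : K)) (hne : u ≠ (t : K))
    (hQt : ∀ x ∈ Q, Commute x (t : K))
    (hnorm : ∀ y : L, Odd (orderOf y) → Commute y t → ∀ x ∈ Q, (y : K) * x * (y : K)⁻¹ ∈ Q)
    {a₀ : K} (ha₀ : a₀ ∈ Q) (hau : Commute a₀ u) : a₀ = 1 := by
  classical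
  have hro : Odd r := hr.out.odd_of_ne_two hr2
  have hoddQ : ∀ x ∈ Q, Odd (orderOf x) := fun x hx => by
    obtain ⟨k, hk⟩ := hQ ⟨x, hx⟩
    exact hro.pow.of_dvd_nat (orderOf_dvd_of_pow_eq_one (congrArg Subtype.val hk))
  have step1 : ∀ b ∈ Q, Commute b u → b ∈ L → b = 1 := by
    intro b hb hbu hbL
    have ho := hoddQ b hb
    have h := inverts A hK ht (x := ⟨b, hbL⟩) (by rw [Subgroup.orderOf_mk]; exact ho)
      (Subtype.ext (hQt b hb).eq) hu hut hne
    rw [← hbu.eq, mul_inv_cancel_right] at h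
    obtain ⟨m, hm⟩ := ho
    have h2 := pow_orderOf_eq_one b
    rwa [hm, pow_succ, pow_mul, pow_two, show b * b = 1 from mul_eq_one_iff_eq_inv.2 h, one_pow,
      one_mul] at h2
  obtain ⟨k, hk⟩ := hQ ⟨a₀, ha₀⟩
  replace hk : a₀ ^ r ^ k = 1 := congrArg Subtype.val hk
  set f₀ := fld (toAut L e a₀) with hf₀
  by_cases hf : f₀ = 1
  · exact step1 a₀ ha₀ hau (KFactsProof.mem_of_fld hK hr2 hk hf)
  exfalso
  haveI : Finite (F ≃+* F) := Finite.of_injective (fun τ => (τ : F → F)) DFunLike.coe_injective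
  obtain ⟨i, -, hi⟩ := (Nat.dvd_prime_pow hr.out).1 (orderOf_dvd_of_pow_eq_one
    (show f₀ ^ r ^ k = 1 by rw [hf₀, ← map_pow, ← map_pow, hk, map_one, map_one]))
  obtain ⟨i, rfl⟩ := Nat.exists_eq_succ_of_ne_zero (fun h : i = 0 => hf (orderOf_eq_one_iff.1 (by rw [hi, h, pow_zero])))
  set a : K := a₀ ^ r ^ i with ha
  have haQ : a ∈ Q := pow_mem ha₀ _
  set σ := fld (toAut L e a) with hσdef
  have hσo : orderOf σ = r := by
    rw [hσdef, ha, map_pow, map_pow, ← hf₀, orderOf_pow_of_dvd (pow_ne_zero _ hr.out.ne_zero)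
      (by rw [hi, pow_succ]; exact dvd_mul_right _ _), hi, pow_succ,
      Nat.mul_div_cancel_left _ (pow_pos hr.out.pos _)]
  have har : a ^ r = 1 := by
    refine step1 _ (pow_mem haQ r) ((hau.pow_left _).pow_left _) (KFactsProof.mem_of_fld hK hr2 (k := k) ?_ ?_)
    · rw [ha, ← pow_mul, ← pow_mul, show r ^ i * (r * r ^ k) = r ^ k * (r ^ i * r) by ring, pow_mul, hk,
        one_pow]
    · rw [map_pow, map_pow, ← hσdef, ← hσo, pow_orderOf_eq_one]
  obtain ⟨g, τ, hg⟩ := exists_semilin (toAut L e a)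
  have hτ : τ = σ := by rw [hσdef, hg, fld_semilin]
  rw [hτ] at hg
  clear hτ τ
  obtain ⟨S, hS, hS0⟩ := exists_sl_rep (z := e t) ((e.orderOf_eq t).trans ht)
  have h2 := two_ne_zero_of_odd' hK.odd
  have hdS := det_toGL_ne_zero S
  have hfixS : semilin g σ (proj 2 F S) = proj 2 F S := by
    rw [hS, ← hg]; exact apply_of_commute (hQt a haQ)
  obtain ⟨c, hc0, hc⟩ := (proj_eq_iff _ _).1 (show proj 2 F S = proj 2 F (slConjHom g σ S) from hfixS.symm)
  have hc2 : c ^ 2 = 1 := by
    have := congrArg Matrix.det hc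
    rw [(slConjHom g σ S).2, Matrix.det_smul, S.2, Fintype.card_fin, mul_one] at this
    exact this.symm
  -- the torus
  set T := cen (S : Matrix (Fin 2) (Fin 2) F) with hT
  let φ : T →* L := e.symm.toMonoidHom.comp ((proj 2 F).comp T.subtype)
  have hφe : ∀ s : T, e (φ s) = proj 2 F s := fun s => e.apply_symm_apply _
  haveI : IsCyclic T := isCyclic_cen hS0 h2
  haveI : IsCyclic φ.range := isCyclic_of_surjective φ.rangeRestrict φ.rangeRestrict_surjective
  have hbeta : ∀ s : T, slConjHom g σ (s : SL 2 F) ∈ T := by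
    intro s
    refine mem_cen.2 ?_
    have h1 : slConjHom g σ ((s : SL 2 F) * S) = slConjHom g σ (S * (s : SL 2 F)) := by
      congr 1
      exact Subtype.ext s.2
    rw [map_mul, map_mul] at h1
    have h2' := congrArg Subtype.val h1
    rw [coe_mul', coe_mul', hc, mul_smul_comm, smul_mul_assoc] at h2'
    exact smul_right_injective _ hc0 h2'
  have hconj : ∀ s : T, a * (φ s : K) * a⁻¹ = (φ ⟨_, hbeta s⟩ : K) := by
    intro s
    have h := toAut_apply L e a (φ s)
    rw [hφe, hg, semilin_proj, ← hφe ⟨_, hbeta s⟩] at h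
    exact (congrArg Subtype.val (e.injective h)).symm
  letI := IsCyclic.commGroup (α := φ.range)
  let θ : φ.range →* φ.range :=
    { toFun := fun x => ⟨⟨a * ((x : L) : K) * a⁻¹, hLn.conj_mem _ (x : L).2 a⟩, by
        obtain ⟨_, s, rfl⟩ := x
        exact ⟨⟨_, hbeta s⟩, Subtype.ext (hconj s).symm⟩⟩
      map_one' := Subtype.ext (Subtype.ext (by simp))
      map_mul' := fun x y => Subtype.ext (Subtype.ext (by
        show a * ((x : L) * (y : L) : L) * a⁻¹ = a * ((x : L) : K) * a⁻¹ * (a * ((y : L) : K) * a⁻¹)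
        rw [coe_mul]; group)) }
  have hθv : ∀ (m : ℕ) (x : φ.range), (((θ^[m] x : φ.range) : L) : K) = a ^ m * ((x : L) : K) * (a ^ m)⁻¹ := by
    intro m
    induction m with
    | zero => intro x; simp
    | succ m ih =>
      intro x
      rw [Function.iterate_succ_apply']
      show a * (((θ^[m] x : φ.range) : L) : K) * a⁻¹ = _
      rw [ih x, pow_succ']
      group
  have hθr : ∀ x : φ.range, θ^[r] x = x := fun x => Subtype.ext (Subtype.ext (by
    rw [hθv, har, one_mul, inv_one, mul_one]))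
  let ψ : T →* φ.range :=
    { toFun := fun s => θ (φ.rangeRestrict s) * (φ.rangeRestrict s)⁻¹
      map_one' := by simp
      map_mul' := fun x y => by rw [map_mul, map_mul, _root_.mul_inv_rev]; ac_rfl }
  haveI : IsCyclic ψ.range := isCyclic_of_surjective ψ.rangeRestrict ψ.rangeRestrict_surjective
  obtain ⟨γ, hγ⟩ := IsCyclic.exists_generator (α := T)
  set D := ψ γ with hD
  have hgen : ψ.range = zpowers D := by
    ext x
    refine ⟨?_, fun hx => zpowers_le.2 (show D ∈ ψ.range from MonoidHom.mem_range.2 ⟨γ, rfl⟩) hx⟩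
    rintro ⟨s, rfl⟩
    obtain ⟨m, rfl⟩ := hγ s
    exact ⟨m, (map_zpow ψ γ m).symm⟩
  obtain ⟨j, hj⟩ : ∃ j : ℕ, θ D = D ^ j := by
    have hmem : θ D ∈ zpowers D := by
      rw [← hgen]
      exact MonoidHom.mem_range.2 ⟨(⟨_, hbeta γ⟩ : T), by
        show θ (φ.rangeRestrict ⟨_, hbeta γ⟩) * (φ.rangeRestrict ⟨_, hbeta γ⟩)⁻¹ =
          θ (θ (φ.rangeRestrict γ) * (φ.rangeRestrict γ)⁻¹)
        have e' : φ.rangeRestrict ⟨_, hbeta γ⟩ = θ (φ.rangeRestrict γ) :=
          Subtype.ext (Subtype.ext (hconj γ).symm)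
        rw [e', map_mul, map_inv]⟩
    obtain ⟨j, hj⟩ := (isOfFinOrder_of_finite D).mem_powers_iff_mem_zpowers.2 hmem
    exact ⟨j, hj.symm⟩
  have hjm : ∀ m : ℕ, θ^[m] D = D ^ j ^ m := by
    intro m
    induction m with
    | zero => simp
    | succ m ih => rw [Function.iterate_succ_apply', ih, map_pow, hj, ← pow_mul, pow_succ']
  have htel : ∀ m : ℕ, ∏ l ∈ Finset.range m, θ^[l] D = θ^[m] (φ.rangeRestrict γ) * (φ.rangeRestrict γ)⁻¹ := by
    intro m
    induction m with
    | zero => simp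
    | succ m ih =>
      rw [Finset.prod_range_succ, ih]
      have : θ^[m] D = θ^[m + 1] (φ.rangeRestrict γ) * (θ^[m] (φ.rangeRestrict γ))⁻¹ := by
        show θ^[m] (θ (φ.rangeRestrict γ) * (φ.rangeRestrict γ)⁻¹) = _
        rw [iterate_map_mul, iterate_map_inv, Function.iterate_succ_apply]
      rw [this]
      rw [mul_comm, ← mul_assoc, inv_mul_cancel_right]
  have hS' : ((orderOf D : ℕ) : ℤ) ∣ ∑ l ∈ Finset.range r, (j : ℤ) ^ l := by
    have h := htel r
    rw [hθr, mul_inv_cancel] at h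
    simp only [hjm] at h
    rw [Finset.prod_pow_eq_pow_sum] at h
    exact_mod_cast Int.natCast_dvd_natCast.2 (orderOf_dvd_of_pow_eq_one h)
  have h1' : ((orderOf D : ℕ) : ℤ) ∣ (j : ℤ) ^ r - 1 := by
    rw [orderOf_dvd_iff_zpow_eq_one, _root_.zpow_sub, zpow_one,
      show ((j : ℤ) ^ r) = ((j ^ r : ℕ) : ℤ) by push_cast; rfl, zpow_natCast, ← hjm, hθr, mul_inv_cancel]
  obtain ⟨A', m', hm', hAm⟩ := Nat.exists_eq_two_pow_mul_odd (orderOf_pos (φ γ)).ne'
  obtain ⟨B, hB⟩ : ∃ B, orderOf D ∣ 2 ^ A' * r ^ B := by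
    set y : L := φ γ ^ 2 ^ A' with hy
    have hyo : Odd (orderOf y) := by
      rw [hy, orderOf_pow_of_dvd (pow_ne_zero _ two_ne_zero) (hAm ▸ dvd_mul_right _ _), hAm,
        Nat.mul_div_cancel_left _ (by positivity)]
      exact hm'
    have hyt : Commute y t := by
      refine Commute.pow_left ?_ _
      refine (e.injective ?_ : φ γ * t = t * φ γ)
      rw [map_mul, map_mul, hφe, ← hS, ← map_mul, ← map_mul]
      exact congrArg (proj 2 F) (Subtype.ext γ.2)
    have hmemQ : a * (y : K) * a⁻¹ * (y : K)⁻¹ ∈ Q := by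
      rw [show a * (y : K) * a⁻¹ * (y : K)⁻¹ = a * ((y : K) * a⁻¹ * (y : K)⁻¹) by group]
      exact mul_mem haQ (hnorm y hyo hyt _ (inv_mem haQ))
    obtain ⟨B, hB⟩ := hQ ⟨_, hmemQ⟩
    replace hB : (a * (y : K) * a⁻¹ * (y : K)⁻¹) ^ r ^ B = 1 := congrArg Subtype.val hB
    refine ⟨B, orderOf_dvd_of_pow_eq_one ?_⟩
    rw [pow_mul]
    refine Subtype.ext (Subtype.ext ?_)
    rw [coe_pow, coe_pow, coe_one, coe_one]
    have e' : ((((D ^ 2 ^ A' : φ.range)) : L) : K) = a * (y : K) * a⁻¹ * (y : K)⁻¹ := by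
      rw [hD, show ψ γ = θ (φ.rangeRestrict γ) * (φ.rangeRestrict γ)⁻¹ from rfl, mul_pow, inv_pow, ← map_pow]
      rfl
    rw [e']
    exact hB
  have hdr : Nat.card ψ.range ∣ r := by
    rw [hgen, Nat.card_zpowers]
    exact dvd_prime_of_norm hr.out hr2 hB h1' hS'
  -- fixed points lie over the fixed field
  obtain ⟨p, hp⟩ := CharP.exists F
  obtain ⟨f, hpp, hfq⟩ := FiniteField.card F p
  haveI : Fact p.Prime := ⟨hpp⟩
  obtain ⟨hrf, hF0⟩ := exists_fixed_field hfq f.pos σ hσo
  set F₀ := σ.toRingHom.eqLocusField (RingHom.id F) with hF₀def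
  have hker : Nat.card ψ.ker ≤ Nat.card F₀ + 1 := by
    have hcoord : ∀ s : ψ.ker, ∃ m : Conic (-1 : F),
        ((s : T) : SL 2 F).1 = m.1.1 • (1 : Matrix (Fin 2) (Fin 2) F) + m.1.2 • (S : Matrix (Fin 2) (Fin 2) F) ∧
          σ m.1.1 = m.1.1 ∧ σ m.1.2 = m.1.2 := by
      intro s
      obtain ⟨x, y, hxy, hdet⟩ := exists_coord hS0 h2 hdS (s : T).2
      rw [S.2, mul_one] at hdet
      refine ⟨⟨(x, y), by linear_combination hdet⟩, hxy, ?_⟩
      have hfix : proj 2 F ((s : T) : SL 2 F) = proj 2 F (slConjHom g σ ((s : T) : SL 2 F)) := by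
        have h0 := s.2
        rw [MonoidHom.mem_ker] at h0
        have h1 : θ (φ.rangeRestrict (s : T)) = φ.rangeRestrict (s : T) := mul_inv_eq_one.1 h0
        have h3 : φ ⟨_, hbeta (s : T)⟩ = φ (s : T) := Subtype.ext ((hconj (s : T)).symm.trans
          (congrArg (fun z : φ.range => ((z : L) : K)) h1))
        have h4 := congrArg e h3
        rw [hφe, hφe] at h4
        exact h4.symm
      obtain ⟨d, -, hd⟩ := (proj_eq_iff _ _).1 hfix
      have hd2 : d ^ 2 = 1 := by
        have := congrArg Matrix.det hd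
        rw [(slConjHom g σ ((s : T) : SL 2 F)).2, Matrix.det_smul, ((s : T) : SL 2 F).2, Fintype.card_fin,
          mul_one] at this
        exact this.symm
      have hmap : ((s : T) : SL 2 F).1.map σ =
          σ x • (1 : Matrix (Fin 2) (Fin 2) F) + σ y • (S : Matrix (Fin 2) (Fin 2) F).map σ := by
        rw [hxy]
        ext i j
        fin_cases i <;> fin_cases j <;> simp
      have hval : (slConjHom g σ ((s : T) : SL 2 F) : Matrix (Fin 2) (Fin 2) F) =
          σ x • (1 : Matrix (Fin 2) (Fin 2) F) + (σ y * c) • (S : Matrix (Fin 2) (Fin 2) F) := by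
        rw [coe_slConjHom, hmap, mul_add, add_mul, mul_smul_comm, mul_smul_comm, smul_mul_assoc,
          smul_mul_assoc, mul_one, Units.mul_inv, ← coe_slConjHom, hc, smul_smul]
      rw [hval] at hd
      have hd' : σ x • (1 : Matrix (Fin 2) (Fin 2) F) + (σ y * c) • (S : Matrix (Fin 2) (Fin 2) F) =
          (d * x) • (1 : Matrix (Fin 2) (Fin 2) F) + (d * y) • (S : Matrix (Fin 2) (Fin 2) F) := by
        rw [hd, hxy, smul_add, smul_smul, smul_smul]
      obtain ⟨ex, ey⟩ := affine_inj hS0 h2 hdS hd'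
      have hσr : σ ^ r = 1 := hσo ▸ pow_orderOf_eq_one σ
      have hfd : ∀ v : F, v ^ 2 = 1 → σ v = v := fun v hv => by
        rcases sq_eq_one_iff.1 hv with rfl | rfl <;> simp
      refine ⟨eq_of_sq_fixed hro hσr ?_, eq_of_sq_fixed hro hσr ?_⟩
      · show σ (σ x) = x
        rw [ex, map_mul, hfd d hd2, ex, ← mul_assoc, ← pow_two, hd2, one_mul]
      · have hy' : σ y = d * c * y := by linear_combination c * ey - σ y * hc2
        show σ (σ y) = y
        rw [hy', map_mul, map_mul, hfd d hd2, hfd c hc2, hy']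
        linear_combination (c ^ 2 * y) * hd2 + y * hc2
    choose m hm hmx hmy using hcoord
    have hminj : Function.Injective m := fun s s' h => by
      refine Subtype.ext (Subtype.ext (Subtype.ext ?_))
      rw [hm s, hm s', h]
    let P := param h2 (-1 : F) (neg_ne_zero.2 one_ne_zero)
    have hfix : ∀ s, ∀ v ∈ P.symm (m s), σ (v : F) = v := by
      intro s v hv
      have h' : (m s).1.1 + 1 ≠ 0 := by
        intro h0
        have : P.symm (m s) = none := dif_pos h0
        rw [this] at hv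
        simp at hv
      have : P.symm (m s) = some ⟨(m s).1.2 / ((m s).1.1 + 1), _⟩ := dif_neg h'
      rw [this, Option.mem_some_iff] at hv
      rw [← hv]
      show σ ((m s).1.2 / ((m s).1.1 + 1)) = _
      rw [map_div₀, map_add, map_one, hmx, hmy]
    let ι : ψ.ker → Option F₀ := fun s =>
      (P.symm (m s)).pmap
        (fun (v : {x : F // (-1 : F) * x ^ 2 ≠ 1}) (hv : σ (v : F) = (v : F)) => (⟨(v : F), hv⟩ : F₀))
        (hfix s)
    have hι : Function.Injective ι := fun s s' h => by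
      refine hminj (P.symm.injective ?_)
      have h' := congrArg (Option.map fun v : F₀ => (v : F)) h
      simp only [ι] at h'
      rcases h1 : P.symm (m s) with _ | v <;> rcases h2 : P.symm (m s') with _ | v' <;>
        simp [h1, h2] at h' ⊢
      exact Subtype.ext h'
    have := Nat.card_le_card_of_injective ι hι
    rwa [Nat.card_eq_fintype_card (α := Option F₀), Fintype.card_option, ← Nat.card_eq_fintype_card] at this
  have hcard := card_cen hS0 h2 hdS
  have hlow : Fintype.card F ≤ Nat.card T + 1 := by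
    rcases quadraticChar_dichotomy (neg_ne_zero.2 hdS) with h | h <;> rw [h] at hcard <;>
      rw [← hT] at hcard <;> omega
  have hup : Nat.card T ≤ r * (Nat.card F₀ + 1) := by
    rw [← ψ.ker.index_mul_card, index_ker]
    exact Nat.mul_le_mul (Nat.le_of_dvd hr.out.pos hdr) hker
  obtain ⟨l, hl⟩ := hrf
  have hl0 : l ≠ 0 := fun h => f.ne_zero (by rw [hl, h, mul_zero])
  have hq0 : Nat.card F₀ = p ^ l := by rw [hF0, hl, Nat.mul_div_cancel_left _ hr.out.pos]
  have hp3 : 3 ≤ p ^ l := by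
    have h2p : p ≠ 2 := fun h => (Nat.not_even_iff_odd.2 hK.odd) (by
      rw [hfq, h]; exact (even_two).pow_of_ne_zero f.ne_zero)
    have := hpp.two_le
    calc 3 ≤ p := by omega
      _ ≤ p ^ l := Nat.le_self_pow hl0 p
  have hr3 : 3 ≤ r := by have := hr.out.two_le; omega
  have hlt := add_mul_lt_pow hp3 r hr3
  rw [← hq0] at hlt
  have hq : Fintype.card F = Nat.card F₀ ^ r := by rw [hq0, hfq, hl, ← pow_mul, mul_comm]
  omega

end CfsgLib.GW.Dne.Lin
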