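import Cfsg.Agent.Lib.GW.Dne.Components.Shapes

/-!
# `RotInverts`, `TorusCyclic` and `FieldTrivial`
-/

set_option autoImplicit false

namespace CfsgLib.GW.Dne.Comp

open Subgroup
open CfsgLib.GW.KFactsProof (q q_eq_one q_eq_q commute_iff img mem_img exists_of_mem_img isPGroup_img Four IsLin shape ambient)
open CfsgLib.Signalizer (involution_sq involution_inv involution_ne_one)

universe u

theorem eq_one_of_inverted_fixed {K : Type*} [Group K] {x : K} (ho : Odd (orderOf x)) (h : x = x⁻¹) : x = 1 := by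
  obtain ⟨m, hm⟩ := ho
  have h2 := pow_orderOf_eq_one x
  rwa [hm, pow_succ, pow_mul, pow_two, show x * x = 1 from mul_eq_one_iff_eq_inv.2 h, one_pow, one_mul] at h2

variable {G : Type u} [Group G] [Finite G] {X : Subgroup G}

omit [Finite G] in
theorem q_conj_eq {g x y : G} (hg : g ∈ X) (hx : x ∈ X) (hy : y ∈ X) (h : g * x * g⁻¹ = y) :
    q X ⟨g, hg⟩ * q X ⟨x, hx⟩ * (q X ⟨g, hg⟩)⁻¹ = q X ⟨y, hy⟩ := by
  rw [← map_inv, ← map_mul, ← map_mul]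
  exact congrArg (q X) (Subtype.ext h)

omit [Finite G] in
theorem q_inverted {g x : G} (hg : g ∈ X) (hx : x ∈ X) (h : g * x * g⁻¹ = x⁻¹) :
    q X ⟨g, hg⟩ * q X ⟨x, hx⟩ * (q X ⟨g, hg⟩)⁻¹ = (q X ⟨x, hx⟩)⁻¹ :=
  (q_conj_eq hg hx (inv_mem hx) h).trans (map_inv (q X) (⟨x, hx⟩ : X))

omit [Finite G] in
theorem q_commute {a b : G} (ha : a ∈ X) (hb : b ∈ X) (h : Commute a b) :
    Commute (q X ⟨a, ha⟩) (q X ⟨b, hb⟩) :=
  (show Commute (⟨a, ha⟩ : X) ⟨b, hb⟩ from Subtype.ext h.eq).map (q X)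

/-- In a non-solvable shape the fused four-group lies in the top. -/
theorem mem_top_fused {t u g : G} (hF : Fused X t u g) {L : Subgroup (X ⧸ Cfsg.oddCore X)} (hL : Top L) :
    q X ⟨t, hF.mem_t⟩ ∈ L ∧ q X ⟨u, hF.mem_u⟩ ∈ L := by
  have hR := hF.rot
  set tb := q X ⟨t, hF.mem_t⟩ with htb
  set ub := q X ⟨u, hF.mem_u⟩ with hub
  set gb := q X ⟨g, hF.mem_g⟩ with hgb
  have h : Four tb ub := four_q hF.mem_t hF.mem_u hR.ht hR.hu hR.ne hR.comm
  have h1 : gb * tb * gb⁻¹ = ub := q_conj_eq _ _ _ hR.conj1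
  have h2 : gb * ub * gb⁻¹ = tb * ub :=
    (q_conj_eq _ _ (mul_mem hF.mem_t hF.mem_u) hR.conj2).trans (map_mul (q X) ⟨t, hF.mem_t⟩ ⟨u, hF.mem_u⟩)
  have h12 : ub * tb ∈ L := by
    have := hL.comm gb tb
    rwa [h1, involution_inv h.hv] at this
  have htL : tb ∈ L := by
    have := Normal.conj_mem hL.normal _ h12 gb
    rwa [show gb * (ub * tb) * gb⁻¹ = gb * ub * gb⁻¹ * (gb * tb * gb⁻¹) by group, h2, h1, mul_assoc,
      involution_sq h.hw, mul_one] at this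
  exact ⟨htL, h1 ▸ Normal.conj_mem hL.normal _ htL gb⟩

variable (σ : Hyp G)
include σ

/-- The image of `O(C(t)) ⊓ X` consists of elements of odd order centralising `t`. -/
theorem mem_img_U {t : G} (ht : orderOf t = 2) (htX : t ∈ X) {k : X ⧸ Cfsg.oddCore X}
    (hk : k ∈ img X (U t ⊓ X)) : Odd (orderOf k) ∧ Commute k (q X ⟨t, htX⟩) := by
  obtain ⟨a, ha, haX, rfl⟩ := exists_of_mem_img hk
  obtain ⟨hat, hao⟩ := (σ.mem_U ht).1 ha.1
  exact ⟨odd_q haX hao, q_commute haX htX hat⟩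

theorem rotInverts : RotInverts G := by
  intro X t u g x i hF hns hnseven hxU hx hux hi hi2 hit hne
  obtain ⟨hxt, hxo⟩ := (σ.mem_U hF.rot.ht).1 hxU
  have hm : i * x * i⁻¹ * x ∈ X := mul_mem (mul_mem (mul_mem hi hx) (inv_mem hi)) hx
  rw [solvable_iff] at hns
  rcases shape σ X hF.ne_top with h | h | ⟨F, L, e, h⟩ | h
  · haveI := h.isNilpotent
    exact absurd IsNilpotent.to_isSolvable hns
  · exact absurd (isSolvable_klein h) hns
  · have htL := (mem_top_fused hF (top_linear h)).1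
    have hxL : q X ⟨x, hx⟩ ∈ L := Lin.mem_of_inverted h (odd_q hx hxo) (q_inverted hF.mem_u hx hux)
    have hinv := Lin.inverts (ambient σ X) h (t := ⟨_, htL⟩)
      (by rw [Subgroup.orderOf_mk]; exact orderOf_q hF.mem_t hF.rot.ht) (x := ⟨_, hxL⟩)
      (by rw [Subgroup.orderOf_mk]; exact odd_q hx hxo) (Subtype.ext (q_commute hx hF.mem_t hxt).eq)
      (orderOf_q hi hi2) (q_commute hi hF.mem_t hit) (four_q hi hF.mem_t hi2 hF.rot.ht hne hit).ne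
    rw [← q_one_iff hm, show (⟨i * x * i⁻¹ * x, hm⟩ : X) = ⟨i, hi⟩ * ⟨x, hx⟩ * ⟨i, hi⟩⁻¹ * ⟨x, hx⟩ from rfl,
      map_mul, map_mul, map_mul, map_inv]
    exact (congrArg (· * q X ⟨x, hx⟩) hinv).trans (inv_mul_cancel _)
  · exact absurd h hnseven

theorem torusCyclic : TorusCyclic G := by
  intro X t u g hF
  have hR := hF.rot
  have htriv : (∀ x ∈ U t ⊓ X, u * x * u⁻¹ = x⁻¹ → x ∈ core X) →
      ∃ w ∈ U t ⊓ X, u * w * u⁻¹ = w⁻¹ ∧
        ∀ x ∈ U t ⊓ X, u * x * u⁻¹ = x⁻¹ → ∃ k : ℤ, x * (w ^ k)⁻¹ ∈ core X :=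
    fun hall => ⟨1, one_mem _, by simp, fun x hx hux => ⟨0, by simpa using hall x hx hux⟩⟩
  by_cases hsol : Group.IsSolvable X
  · exact htriv fun x hx _ => solvableLocal σ X t u g x hF hsol hx.1 hx.2
  set W := img X (U t ⊓ X) with hW
  obtain ⟨V, hV, hVW⟩ : ∃ V : Subgroup (X ⧸ Cfsg.oddCore X), IsCyclic V ∧ V ≤ W ∧
      ∀ x, ∀ hx : x ∈ U t ⊓ X, u * x * u⁻¹ = x⁻¹ → q X ⟨x, hx.2⟩ ∈ V ∧
        ∀ k ∈ V, q X ⟨u, hF.mem_u⟩ * k * (q X ⟨u, hF.mem_u⟩)⁻¹ = k⁻¹ := by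
    rw [solvable_iff] at hsol
    rcases shape σ X hF.ne_top with h | h | ⟨F, L, e, h⟩ | h
    · haveI := h.isNilpotent
      exact absurd IsNilpotent.to_isSolvable hsol
    · exact absurd (isSolvable_klein h) hsol
    · have htL := (mem_top_fused hF (top_linear h)).1
      have ht2 : orderOf (⟨_, htL⟩ : L) = 2 := by
        rw [Subgroup.orderOf_mk]; exact orderOf_q hF.mem_t hR.ht
      refine ⟨W ⊓ L, Lin.cyclic_torus h ht2 fun k hk => ?_, inf_le_left, fun x hx hux => ⟨⟨mem_img hx _, ?_⟩, ?_⟩⟩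
      · exact ⟨hk.2, mem_img_U σ hR.ht hF.mem_t hk.1⟩
      · exact Lin.mem_of_inverted h (odd_q hx.2 ((σ.mem_U hR.ht).1 hx.1).2) (q_inverted hF.mem_u hx.2 hux)
      · intro k hk
        obtain ⟨ho, hc⟩ := mem_img_U σ hR.ht hF.mem_t hk.1
        exact Lin.inverts (ambient σ X) h ht2 (x := ⟨k, hk.2⟩) (by rw [Subgroup.orderOf_mk]; exact ho)
          (Subtype.ext hc.eq) (orderOf_q hF.mem_u hR.hu) (q_commute hF.mem_u hF.mem_t hR.comm.symm)
          (four_q hF.mem_u hF.mem_t hR.hu hR.ht hR.ne.symm hR.comm.symm).ne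
    · obtain ⟨hc, hd⟩ := seven_cyclic h.some (W := W) (orderOf_q hF.mem_t hR.ht)
        fun k hk => mem_img_U σ hR.ht hF.mem_t hk
      by_cases hall : ∀ x, ∀ hx : x ∈ U t ⊓ X, u * x * u⁻¹ = x⁻¹ → q X ⟨x, hx.2⟩ = 1
      · refine ⟨⊥, inferInstance, bot_le, fun x hx hux => ⟨mem_bot.2 (hall x hx hux), fun k hk => ?_⟩⟩
        rw [mem_bot.1 hk]; simp
      push Not at hall
      obtain ⟨x₀, hx₀, hux₀, hne⟩ := hall
      refine ⟨W, hc, le_rfl, fun x hx hux => ⟨mem_img hx _, fun k hk => ?_⟩⟩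
      have hgen : zpowers (q X ⟨x₀, hx₀.2⟩) = W := by
        refine eq_of_le_of_card_ge (zpowers_le.2 (mem_img hx₀ _)) ?_
        rw [Nat.card_zpowers]
        have h1 : orderOf (q X ⟨x₀, hx₀.2⟩) ∣ Nat.card W := orderOf_dvd_natCard W (mem_img hx₀ _)
        rcases (Nat.dvd_prime Nat.prime_three).1 (h1.trans hd) with e | e
        · exact absurd (orderOf_eq_one_iff.1 e) hne
        · rw [e]; exact Nat.le_of_dvd (by norm_num) hd
      obtain ⟨j, rfl⟩ := mem_zpowers_iff.1 (hgen.symm ▸ hk)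
      rw [← conj_zpow, q_inverted hF.mem_u hx₀.2 hux₀, inv_zpow]
  by_cases hall : ∀ x ∈ U t ⊓ X, u * x * u⁻¹ = x⁻¹ → x ∈ core X
  · exact htriv hall
  push Not at hall
  obtain ⟨x₀, hx₀, hux₀, -⟩ := hall
  obtain ⟨-, hinvV⟩ := hVW.2 x₀ hx₀ hux₀
  haveI := hV
  obtain ⟨c, hc⟩ := IsCyclic.exists_generator (α := V)
  obtain ⟨z, hz, hzX, hzc⟩ := exists_of_mem_img (hVW.1 c.2)
  have huU : u * z⁻¹ * u⁻¹ ∈ U t :=
    (mem_normalizer_iff.1 (Setting.le_normalizer_U t (mem_centralizer_of_commute hR.comm.symm)) _).1 (inv_mem hz.1)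
  have huX : u * z⁻¹ * u⁻¹ ∈ X := mul_mem (mul_mem hF.mem_u (inv_mem hzX)) (inv_mem hF.mem_u)
  refine ⟨z * (u * z⁻¹ * u⁻¹), mul_mem hz ⟨huU, huX⟩, ?_, fun x hx hux => ?_⟩
  · have huu := involution_sq hR.hu
    calc u * (z * (u * z⁻¹ * u⁻¹)) * u⁻¹ = u * z * (u * z⁻¹ * (u * u)⁻¹) := by group
      _ = u * z * u⁻¹ * z⁻¹ := by
          rw [huu, inv_one, mul_one, ← mul_assoc]
          nth_rewrite 2 [← involution_inv hR.hu]
          rfl
      _ = (z * (u * z⁻¹ * u⁻¹))⁻¹ := by group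
  · obtain ⟨hxV, -⟩ := hVW.2 x hx hux
    obtain ⟨j, hj⟩ := mem_zpowers_iff.1 (hc ⟨_, hxV⟩)
    have hco : Odd (orderOf (c : X ⧸ Cfsg.oddCore X)) := (mem_img_U σ hR.ht hF.mem_t (hVW.1 c.2)).1
    obtain ⟨m, hm⟩ := hco
    have hwX : z * (u * z⁻¹ * u⁻¹) ∈ X := mul_mem hzX huX
    refine ⟨(m + 1 : ℤ) * j, (q_eq_q hx.2 (zpow_mem hwX _)).1 ?_⟩
    rw [show (⟨(z * (u * z⁻¹ * u⁻¹)) ^ ((m + 1 : ℤ) * j), zpow_mem hwX _⟩ : X) =
      (⟨z, hzX⟩ * (⟨u, hF.mem_u⟩ * ⟨z, hzX⟩⁻¹ * ⟨u, hF.mem_u⟩⁻¹)) ^ ((m + 1 : ℤ) * j) from Subtype.ext (by simp),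
      map_zpow, map_mul, map_mul, map_mul, map_inv, map_inv, hzc]
    rw [hinvV _ (inv_mem c.2), inv_inv, ← pow_two, ← zpow_natCast, ← zpow_mul,
      show ((2 : ℕ) : ℤ) * ((m + 1 : ℤ) * j) = ((2 * m + 1 : ℕ) : ℤ) * j + j by push_cast; ring, zpow_add,
      zpow_mul, zpow_natCast, ← hm, pow_orderOf_eq_one, one_zpow, one_mul]
    exact (congrArg Subtype.val hj).symm

theorem fieldTrivial : FieldTrivial G := by
  intro X Q t u g r hF hr hQ hQU hQX hnormQ huQ hseven a ha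
  obtain ⟨haQ, hau'⟩ := ha
  have hau : Commute a u := commute_of_mem_centralizer hau'
  have hR := hF.rot
  haveI : Fact r.Prime := ⟨hr⟩
  by_cases hsol : Group.IsSolvable X
  · exact solvableLocal σ X t u g a hF hsol (hQU haQ) (hQX haQ)
  rw [← q_one_iff (hQX haQ)]
  rw [solvable_iff] at hsol
  have hao : Odd (orderOf (q X ⟨a, hQX haQ⟩)) := odd_q _ ((σ.mem_U hR.ht).1 (hQU haQ)).2
  rcases shape σ X hF.ne_top with h | h | ⟨F, L, e, h⟩ | h
  · haveI := h.isNilpotent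
    exact absurd IsNilpotent.to_isSolvable hsol
  · exact absurd (isSolvable_klein h) hsol
  · by_cases ha1 : a = 1
    · subst ha1; exact (q_one_iff _).2 (one_mem _)
    have hr2 : r ≠ 2 := fun e2 => ha1 (by
      subst e2
      obtain ⟨k, hk⟩ := isRElt_of_mem hQ haQ
      exact orderOf_eq_one_iff.1 (Nat.eq_one_of_dvd_coprimes
        ((Nat.coprime_two_right.2 ((σ.mem_U hR.ht).1 (hQU haQ)).2).pow_right k) dvd_rfl
        (orderOf_dvd_of_pow_eq_one hk)))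
    have htL := (mem_top_fused hF (top_linear h)).1
    refine Lin.field_trivial (ambient σ X) h hr2 (Q := img X Q) (isPGroup_img hQ) (t := ⟨_, htL⟩)
      (by rw [Subgroup.orderOf_mk]; exact orderOf_q hF.mem_t hR.ht) (orderOf_q hF.mem_u hR.hu)
      (q_commute hF.mem_u hF.mem_t hR.comm.symm)
      (four_q hF.mem_u hF.mem_t hR.hu hR.ht hR.ne.symm hR.comm.symm).ne ?_ ?_ (mem_img haQ _)
      (q_commute _ hF.mem_u hau)
    · intro k hk
      obtain ⟨b, hb, hbX, rfl⟩ := exists_of_mem_img hk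
      exact q_commute hbX hF.mem_t ((σ.mem_U hR.ht).1 (hQU hb)).1
    · intro y hyo hyt k hk
      obtain ⟨⟨z, hzX⟩, hz⟩ := QuotientGroup.mk'_surjective _ (y : X ⧸ Cfsg.oddCore X)
      change q X ⟨z, hzX⟩ = _ at hz
      have hc : t * z * t⁻¹ * z⁻¹ ∈ core X :=
        (commute_iff hF.mem_t hzX).1 (by rw [hz]; exact (show Commute (y : X ⧸ Cfsg.oddCore X) _ from congrArg Subtype.val hyt).symm)
      obtain ⟨z', hz', hz'o, hz't, j, hj⟩ := exists_lift_odd (le_normalizer hF.mem_t) hR.ht hzX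
        (by rw [hz, Subgroup.orderOf_coe]; exact hyo) hc
      have hN : (y : X ⧸ Cfsg.oddCore X) ^ 2 ^ j ∈ normalizer (img X Q : Set (X ⧸ Cfsg.oddCore X)) := by
        rw [← hz, ← hj hz']
        refine mem_normalizer_of_conj fun v hv => ?_
        obtain ⟨b, hb, hbX, rfl⟩ := exists_of_mem_img hv
        rw [q_conj_eq hz' hbX (mul_mem (mul_mem hz' hbX) (inv_mem hz')) rfl]
        exact mem_img ((mem_normalizer_iff.1 (hnormQ ⟨(σ.mem_U hR.ht).2 ⟨hz't, hz'o⟩, hz'⟩) b).1 hb) _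
      obtain ⟨m, hm⟩ := exists_pow_eq_self_of_coprime (x := (y : X ⧸ Cfsg.oddCore X)) (n := 2 ^ j)
        ((Nat.coprime_two_left.2 (by rw [Subgroup.orderOf_coe]; exact hyo)).pow_left j)
      exact (mem_normalizer_iff.1 (hm ▸ pow_mem hN m) k).1 hk
  · obtain ⟨x, hx, hux, hxc⟩ := hseven h
    obtain ⟨-, hd⟩ := seven_cyclic h.some (W := img X (U t ⊓ X)) (orderOf_q hF.mem_t hR.ht)
      fun k hk => mem_img_U σ hR.ht hF.mem_t hk
    have hgen : zpowers (q X ⟨x, hx.2⟩) = img X (U t ⊓ X) := by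
      refine eq_of_le_of_card_ge (zpowers_le.2 (mem_img hx _)) ?_
      rw [Nat.card_zpowers]
      rcases (Nat.dvd_prime Nat.prime_three).1
        ((orderOf_dvd_natCard _ (mem_img hx _)).trans hd) with e | e
      · exact absurd ((q_one_iff hx.2).1 (orderOf_eq_one_iff.1 e)) hxc
      · rw [e]; exact Nat.le_of_dvd (by norm_num) hd
    obtain ⟨j, hj⟩ := mem_zpowers_iff.1 (hgen.symm ▸
      (mem_img (⟨hQU haQ, hQX haQ⟩ : a ∈ U t ⊓ X) (hQX haQ)))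
    refine eq_one_of_inverted_fixed hao ?_
    calc q X ⟨a, hQX haQ⟩ = q X ⟨u, hF.mem_u⟩ * q X ⟨a, hQX haQ⟩ * (q X ⟨u, hF.mem_u⟩)⁻¹ := by
          rw [← (q_commute (hQX haQ) hF.mem_u hau).eq, mul_inv_cancel_right]
      _ = (q X ⟨a, hQX haQ⟩)⁻¹ := by rw [← hj, ← conj_zpow, q_inverted hF.mem_u hx.2 hux, inv_zpow]

end CfsgLib.GW.Dne.Comp
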