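import Mathlib
import Cfsg.Agent.Lib.Classical.SL2Structure

/-!
# Tori of `SL(2, F)`: the centraliser of a trace zero matrix

For `g` of trace `0` and `d = -det g ≠ 0` the centraliser of `g` in `SL(2, F)` is the conic
`a ^ 2 - d b ^ 2 = 1`, of order `q - χ(d)`; a matrix anticommuting with `g` inverts it.
-/

set_option autoImplicit false

namespace CfsgLib.GW.Dne.Tori

open Matrix

variable {F : Type*} [Field F]

/-- Trace zero. -/
def Tr0 (g : Matrix (Fin 2) (Fin 2) F) : Prop := g 1 1 = -g 0 0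

theorem coe_mul' (s t : Matrix.SpecialLinearGroup (Fin 2) F) :
    ((s * t : Matrix.SpecialLinearGroup (Fin 2) F) : Matrix (Fin 2) (Fin 2) F) = (s : Matrix (Fin 2) (Fin 2) F) * t := rfl

theorem coe_one' : ((1 : Matrix.SpecialLinearGroup (Fin 2) F) : Matrix (Fin 2) (Fin 2) F) = 1 := rfl

variable {g : Matrix (Fin 2) (Fin 2) F}

theorem mul_self (h : Tr0 g) : g * g = (-g.det) • (1 : Matrix (Fin 2) (Fin 2) F) := by
  have h' : g 1 1 = -g 0 0 := h
  ext i j
  fin_cases i <;> fin_cases j <;>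
    simp [Matrix.mul_apply, Fin.sum_univ_two, Matrix.det_fin_two, h'] <;> ring

theorem det_affine (h : Tr0 g) (a b : F) : (a • (1 : Matrix (Fin 2) (Fin 2) F) + b • g).det = a ^ 2 + b ^ 2 * g.det := by
  have h' : g 1 1 = -g 0 0 := h
  simp [Matrix.det_fin_two, h']
  ring

theorem affine_mul (h : Tr0 g) (a b a' b' : F) :
    (a • (1 : Matrix (Fin 2) (Fin 2) F) + b • g) * (a' • (1 : Matrix (Fin 2) (Fin 2) F) + b' • g) =
      (a * a' - b * b' * g.det) • (1 : Matrix (Fin 2) (Fin 2) F) + (a * b' + b * a') • g := by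
  rw [add_mul, mul_add, mul_add, smul_mul_smul_comm, smul_mul_smul_comm, smul_mul_smul_comm,
    smul_mul_smul_comm, one_mul, mul_one, one_mul, mul_self h, smul_smul, add_smul, sub_eq_add_neg,
    add_smul, show -(b * b' * g.det) = b * b' * -g.det by ring]
  abel

theorem affine_inj (h : Tr0 g) (h2 : (2 : F) ≠ 0) (hd : g.det ≠ 0) {a b a' b' : F}
    (e : a • (1 : Matrix (Fin 2) (Fin 2) F) + b • g = a' • (1 : Matrix (Fin 2) (Fin 2) F) + b' • g) : a = a' ∧ b = b' := by
  have h' : g 1 1 = -g 0 0 := h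
  have e00 := congrFun₂ e 0 0
  have e01 := congrFun₂ e 0 1
  have e10 := congrFun₂ e 1 0
  have e11 := congrFun₂ e 1 1
  simp [h'] at e00 e01 e10 e11
  have hb : b = b' := by
    by_contra hne
    refine hd ?_
    have hs : b - b' ≠ 0 := sub_ne_zero.2 hne
    have x0 : g 0 0 = 0 := by
      have : (b - b') * g 0 0 * 2 = 0 := by linear_combination e00 - e11
      simpa [hs, h2] using this
    have y0 : g 0 1 = 0 := e01.resolve_left hne
    rw [Matrix.det_fin_two, x0, y0]
    simp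
  subst hb
  exact ⟨add_right_cancel e00, rfl⟩

theorem exists_affine (h : Tr0 g) (h2 : (2 : F) ≠ 0) (hd : g.det ≠ 0) {M : Matrix (Fin 2) (Fin 2) F} (hc : M * g = g * M) :
    ∃ a b : F, M = a • (1 : Matrix (Fin 2) (Fin 2) F) + b • g := by
  have h' : g 1 1 = -g 0 0 := h
  have c00 := congrFun₂ hc 0 0
  have c01 := congrFun₂ hc 0 1
  have c10 := congrFun₂ hc 1 0
  simp [Matrix.mul_apply, Fin.sum_univ_two, h'] at c00 c01 c10
  have ext' : ∀ a b : F, M 0 0 = a + b * g 0 0 → M 0 1 = b * g 0 1 → M 1 0 = b * g 1 0 →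
      M 1 1 = a - b * g 0 0 → M = a • (1 : Matrix (Fin 2) (Fin 2) F) + b • g := fun a b e1 e2 e3 e4 => by
    ext i j
    fin_cases i <;> fin_cases j <;> simp [e1, e2, e3, e4, h'] <;> ring
  by_cases hy : g 0 1 = 0
  · by_cases hz : g 1 0 = 0
    · have hx : g 0 0 ≠ 0 := fun hx => hd (by rw [Matrix.det_fin_two, hx, hy]; simp)
      rw [hy] at c01; rw [hz] at c10
      have m01 : M 0 1 = 0 := by
        have : M 0 1 * g 0 0 * 2 = 0 := by linear_combination -c01
        simpa [hx, h2] using this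
      have m10 : M 1 0 = 0 := by
        have : M 1 0 * g 0 0 * 2 = 0 := by linear_combination c10
        simpa [hx, h2] using this
      refine ⟨(M 0 0 + M 1 1) / 2, (M 0 0 - M 1 1) / (2 * g 0 0), ext' _ _ ?_ ?_ ?_ ?_⟩
      · field_simp; ring
      · rw [m01, hy, mul_zero]
      · rw [m10, hz, mul_zero]
      · field_simp; ring
    · rw [hy] at c01 c00
      have m01 : M 0 1 = 0 := by
        have : M 0 1 * g 1 0 = 0 := by linear_combination c00
        simpa [hz] using this
      refine ⟨M 0 0 - M 1 0 / g 1 0 * g 0 0, M 1 0 / g 1 0, ext' _ _ (by ring) ?_ ?_ ?_⟩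
      · rw [m01, hy, mul_zero]
      · rw [div_mul_cancel₀ _ hz]
      · field_simp
        linear_combination c10
  · refine ⟨M 0 0 - M 0 1 / g 0 1 * g 0 0, M 0 1 / g 0 1, ext' _ _ (by ring) ?_ ?_ ?_⟩
    · rw [div_mul_cancel₀ _ hy]
    · field_simp
      linear_combination -c00
    · field_simp
      linear_combination -c01

/-- A non-scalar matrix with scalar square has trace zero. -/
theorem tr0_of_sq {c : F} (hns : ∀ a : F, g ≠ a • (1 : Matrix (Fin 2) (Fin 2) F)) (hsq : g * g = c • (1 : Matrix (Fin 2) (Fin 2) F)) : Tr0 g := by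
  by_contra hne
  have hs : g 0 0 + g 1 1 ≠ 0 := fun e => hne (eq_neg_of_add_eq_zero_right e)
  have e00 := congrFun₂ hsq 0 0
  have e01 := congrFun₂ hsq 0 1
  have e10 := congrFun₂ hsq 1 0
  have e11 := congrFun₂ hsq 1 1
  simp [Matrix.mul_apply, Fin.sum_univ_two] at e00 e01 e10 e11
  have y0 : g 0 1 = 0 := by
    have : g 0 1 * (g 0 0 + g 1 1) = 0 := by linear_combination e01
    simpa [hs] using this
  have z0 : g 1 0 = 0 := by
    have : g 1 0 * (g 0 0 + g 1 1) = 0 := by linear_combination e10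
    simpa [hs] using this
  have hxw : g 0 0 = g 1 1 := by
    have : (g 0 0 - g 1 1) * (g 0 0 + g 1 1) = 0 := by linear_combination e00 - e11
    exact sub_eq_zero.1 (by simpa [hs] using this)
  refine hns (g 0 0) ?_
  ext i j
  fin_cases i <;> fin_cases j <;> simp [y0, z0, hxw]

/-- A matrix anticommuting with a trace zero one has trace zero. -/
theorem tr0_of_anti (h : Tr0 g) (h2 : (2 : F) ≠ 0) (hd : g.det ≠ 0) {M : Matrix (Fin 2) (Fin 2) F} (hc : M * g = -(g * M)) :
    Tr0 M := by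
  have h1 : (g * M * g).trace = -(-g.det * M.trace) := by
    rw [mul_assoc, hc, mul_neg, ← mul_assoc, mul_self h, smul_mul_assoc, one_mul, Matrix.trace_neg,
      Matrix.trace_smul, smul_eq_mul]
  rw [Matrix.trace_mul_cycle, mul_self h, smul_mul_assoc, one_mul, Matrix.trace_smul, smul_eq_mul] at h1
  have h3 : g.det * M.trace * 2 = 0 := by linear_combination -h1
  have h4 : M.trace = 0 := by simpa [hd, h2] using h3
  rw [Matrix.trace_fin_two] at h4
  exact eq_neg_of_add_eq_zero_right h4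

/-- The centraliser of `g` in `SL(2, F)`. -/
def cen (g : Matrix (Fin 2) (Fin 2) F) : Subgroup (Matrix.SpecialLinearGroup (Fin 2) F) where
  carrier := {s | (s : Matrix (Fin 2) (Fin 2) F) * g = g * (s : Matrix (Fin 2) (Fin 2) F)}
  one_mem' := by simp
  mul_mem' := fun {s t} hs ht => by
    show ((s * t : Matrix.SpecialLinearGroup (Fin 2) F) : Matrix (Fin 2) (Fin 2) F) * g = g * ((s * t : Matrix.SpecialLinearGroup (Fin 2) F) : Matrix (Fin 2) (Fin 2) F)
    rw [coe_mul', mul_assoc, show (t : Matrix (Fin 2) (Fin 2) F) * g = g * t from ht, ← mul_assoc,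
      show (s : Matrix (Fin 2) (Fin 2) F) * g = g * s from hs, mul_assoc]
  inv_mem' := fun {s} hs => by
    show ((s⁻¹ : Matrix.SpecialLinearGroup (Fin 2) F) : Matrix (Fin 2) (Fin 2) F) * g = g * ((s⁻¹ : Matrix.SpecialLinearGroup (Fin 2) F) : Matrix (Fin 2) (Fin 2) F)
    have h1 : ((s⁻¹ : Matrix.SpecialLinearGroup (Fin 2) F) : Matrix (Fin 2) (Fin 2) F) * (s : Matrix (Fin 2) (Fin 2) F) = 1 := by
      rw [← coe_mul', inv_mul_cancel, coe_one']
    have h2 : (s : Matrix (Fin 2) (Fin 2) F) * ((s⁻¹ : Matrix.SpecialLinearGroup (Fin 2) F) : Matrix (Fin 2) (Fin 2) F) = 1 := by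
      rw [← coe_mul', mul_inv_cancel, coe_one']
    calc ((s⁻¹ : Matrix.SpecialLinearGroup (Fin 2) F) : Matrix (Fin 2) (Fin 2) F) * g = ((s⁻¹ : Matrix.SpecialLinearGroup (Fin 2) F) : Matrix (Fin 2) (Fin 2) F) * g * ((s : Matrix (Fin 2) (Fin 2) F) * ((s⁻¹ : Matrix.SpecialLinearGroup (Fin 2) F) : Matrix (Fin 2) (Fin 2) F)) := by
          rw [h2, mul_one]
      _ = ((s⁻¹ : Matrix.SpecialLinearGroup (Fin 2) F) : Matrix (Fin 2) (Fin 2) F) * ((s : Matrix (Fin 2) (Fin 2) F) * g) * ((s⁻¹ : Matrix.SpecialLinearGroup (Fin 2) F) : Matrix (Fin 2) (Fin 2) F) := by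
          rw [show (s : Matrix (Fin 2) (Fin 2) F) * g = g * s from hs]; simp [mul_assoc]
      _ = g * ((s⁻¹ : Matrix.SpecialLinearGroup (Fin 2) F) : Matrix (Fin 2) (Fin 2) F) := by rw [← mul_assoc, h1, one_mul]

theorem mem_cen {s : Matrix.SpecialLinearGroup (Fin 2) F} : s ∈ cen g ↔ (s : Matrix (Fin 2) (Fin 2) F) * g = g * (s : Matrix (Fin 2) (Fin 2) F) := Iff.rfl

theorem exists_coord (h : Tr0 g) (h2 : (2 : F) ≠ 0) (hd : g.det ≠ 0) {s : Matrix.SpecialLinearGroup (Fin 2) F} (hs : s ∈ cen g) :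
    ∃ a b : F, (s : Matrix (Fin 2) (Fin 2) F) = a • (1 : Matrix (Fin 2) (Fin 2) F) + b • g ∧ a ^ 2 + b ^ 2 * g.det = 1 := by
  obtain ⟨a, b, e⟩ := exists_affine h h2 hd hs
  exact ⟨a, b, e, by rw [← det_affine h, ← e, s.2]⟩

/-- A matrix anticommuting with `g` inverts the centraliser of `g`. -/
theorem anti_inverts (h : Tr0 g) (h2 : (2 : F) ≠ 0) (hd : g.det ≠ 0) {M : Matrix (Fin 2) (Fin 2) F} (hc : M * g = -(g * M))
    {s : Matrix.SpecialLinearGroup (Fin 2) F} (hs : s ∈ cen g) : M * (s : Matrix (Fin 2) (Fin 2) F) = ((s⁻¹ : Matrix.SpecialLinearGroup (Fin 2) F) : Matrix (Fin 2) (Fin 2) F) * M := by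
  obtain ⟨a, b, e, hab⟩ := exists_coord h h2 hd hs
  have hi : ((s⁻¹ : Matrix.SpecialLinearGroup (Fin 2) F) : Matrix (Fin 2) (Fin 2) F) = a • (1 : Matrix (Fin 2) (Fin 2) F) + (-b) • g := by
    have h1 : (s : Matrix (Fin 2) (Fin 2) F) * (a • (1 : Matrix (Fin 2) (Fin 2) F) + (-b) • g) = 1 := by
      rw [e, affine_mul h, show a * a - b * -b * g.det = 1 by linear_combination hab,
        show a * -b + b * a = 0 by ring, one_smul, zero_smul, add_zero]
    calc ((s⁻¹ : Matrix.SpecialLinearGroup (Fin 2) F) : Matrix (Fin 2) (Fin 2) F) = ((s⁻¹ : Matrix.SpecialLinearGroup (Fin 2) F) : Matrix (Fin 2) (Fin 2) F) * ((s : Matrix (Fin 2) (Fin 2) F) * (a • (1 : Matrix (Fin 2) (Fin 2) F) + (-b) • g)) := by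
          rw [h1, mul_one]
      _ = a • (1 : Matrix (Fin 2) (Fin 2) F) + (-b) • g := by
          rw [← mul_assoc, ← coe_mul', inv_mul_cancel, coe_one', one_mul]
  rw [hi, e, mul_add, add_mul, mul_smul_comm, mul_smul_comm, smul_mul_assoc, smul_mul_assoc, mul_one,
    one_mul, hc, smul_neg, neg_smul]

theorem cen_comm (h : Tr0 g) (h2 : (2 : F) ≠ 0) (hd : g.det ≠ 0) {s t : Matrix.SpecialLinearGroup (Fin 2) F} (hs : s ∈ cen g)
    (ht : t ∈ cen g) : s * t = t * s := by
  obtain ⟨a, b, e, -⟩ := exists_coord h h2 hd hs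
  obtain ⟨a', b', e', -⟩ := exists_coord h h2 hd ht
  refine Subtype.ext ?_
  rw [coe_mul', coe_mul', e, e', affine_mul h, affine_mul h]
  congr 2 <;> ring

/-- A non-central element of the centraliser whose square is scalar has trace zero. -/
theorem coord_of_sq_scalar (h : Tr0 g) (h2 : (2 : F) ≠ 0) (hd : g.det ≠ 0) {a b c : F}
    (e : (a • (1 : Matrix (Fin 2) (Fin 2) F) + b • g) * (a • (1 : Matrix (Fin 2) (Fin 2) F) + b • g) = c • (1 : Matrix (Fin 2) (Fin 2) F)) : a = 0 ∨ b = 0 := by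
  rw [affine_mul h] at e
  have h' := (affine_inj h h2 hd (a' := c) (b' := 0) (by rw [e, zero_smul, add_zero])).2
  have : a * b * 2 = 0 := by linear_combination h'
  simpa [h2] using this

section Count

variable [Fintype F] [DecidableEq F]

/-- The conic `a ^ 2 - d b ^ 2 = 1`. -/
abbrev Conic (d : F) : Type _ := {p : F × F // p.1 ^ 2 - d * p.2 ^ 2 = 1}

/-- Rational parametrisation. -/
noncomputable def param (h2 : (2 : F) ≠ 0) (d : F) (hd : d ≠ 0) : Option {m : F // d * m ^ 2 ≠ 1} ≃ Conic d where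
  toFun o := match o with
    | none => ⟨(-1, 0), by simp⟩
    | some m => ⟨((1 + d * (m : F) ^ 2) / (1 - d * (m : F) ^ 2), 2 * m / (1 - d * (m : F) ^ 2)), by
        have h1 : (1 : F) - d * (m : F) ^ 2 ≠ 0 := sub_ne_zero.2 (Ne.symm m.2)
        field_simp
        ring⟩
  invFun p :=
    if hp : p.1.1 + 1 = 0 then none else some ⟨p.1.2 / (p.1.1 + 1), fun e => h2 (by
      field_simp at e
      have : (p.1.1 + 1) * 2 = 0 := by linear_combination -e - p.2
      exact (mul_eq_zero.1 this).resolve_left hp)⟩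
  left_inv o := by
    rcases o with _ | ⟨m, hm⟩
    · simp
    · have h1 : (1 : F) - d * m ^ 2 ≠ 0 := sub_ne_zero.2 (Ne.symm hm)
      have h4 : (1 + d * m ^ 2) / (1 - d * m ^ 2) + 1 = 2 / (1 - d * m ^ 2) := by
        rw [div_add_one h1]
        congr 1
        ring
      have h3 : (1 + d * m ^ 2) / (1 - d * m ^ 2) + 1 ≠ 0 := h4 ▸ div_ne_zero h2 h1
      simp only [dif_neg h3]
      congr 1
      refine Subtype.ext ?_
      show 2 * m / (1 - d * m ^ 2) / ((1 + d * m ^ 2) / (1 - d * m ^ 2) + 1) = m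
      rw [h4, div_div_div_cancel_right₀ h1, mul_div_cancel_left₀ _ h2]
  right_inv p := by
    obtain ⟨⟨a, b⟩, hp⟩ := p
    simp only at hp
    by_cases ha : a + 1 = 0
    · simp only [dif_pos ha]
      obtain rfl : a = -1 := eq_neg_of_add_eq_zero_left ha
      have : d * b ^ 2 = 0 := by linear_combination -hp
      have hb : b = 0 := by simpa [hd] using this
      subst hb
      rfl
    · simp only [dif_neg ha]
      have h1 : (1 : F) - d * (b / (a + 1)) ^ 2 = 2 / (a + 1) := by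
        field_simp
        linear_combination hp
      refine Subtype.ext (Prod.ext ?_ ?_) <;> simp only [h1]
      · field_simp
        linear_combination -hp
      · field_simp

theorem card_conic (h2 : (2 : F) ≠ 0) {d : F} (hd : d ≠ 0) :
    (Nat.card (Conic d) : ℤ) = Fintype.card F - quadraticChar F d := by
  have hchar : ringChar F ≠ 2 := fun h => h2 (by
    have := ringChar.Nat.cast_ringChar (R := F)
    rw [h] at this
    exact_mod_cast this)
  have hs := quadraticChar_card_sqrts hchar d⁻¹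
  have hinv : quadraticChar F d⁻¹ = quadraticChar F d := by
    rcases quadraticChar_dichotomy hd with e | e
    · rw [e, quadraticChar_one_iff_isSquare (inv_ne_zero hd), isSquare_inv]
      exact (quadraticChar_one_iff_isSquare hd).1 e
    · rw [e, quadraticChar_neg_one_iff_not_isSquare, isSquare_inv]
      exact quadraticChar_neg_one_iff_not_isSquare.1 e
  rw [hinv] at hs
  have hset : (Finset.univ.filter fun m : F => d * m ^ 2 = 1) = ({x : F | x ^ 2 = d⁻¹} : Set F).toFinset := by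
    ext m
    simp only [Finset.mem_filter, Finset.mem_univ, true_and, Set.mem_toFinset, Set.mem_ofPred_eq]
    constructor
    · intro h
      exact eq_inv_of_mul_eq_one_right h
    · intro h
      rw [h, mul_inv_cancel₀ hd]
  rw [← Nat.card_congr (param h2 d hd), Nat.card_eq_fintype_card, Fintype.card_option,
    Fintype.card_subtype_compl, Fintype.card_subtype, hset]
  have hle := Finset.card_le_univ ({x : F | x ^ 2 = d⁻¹} : Set F).toFinset
  push_cast [Nat.cast_sub hle]
  linarith [hs]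

/-- The torus order. -/
theorem card_cen (h : Tr0 g) (h2 : (2 : F) ≠ 0) (hd : g.det ≠ 0) :
    (Nat.card (cen g) : ℤ) = Fintype.card F - quadraticChar F (-g.det) := by
  rw [← card_conic h2 (neg_ne_zero.2 hd)]
  congr 1
  refine (Nat.card_congr (Equiv.ofBijective (fun p : Conic (-g.det) =>
    (⟨⟨p.1.1 • (1 : Matrix (Fin 2) (Fin 2) F) + p.1.2 • g, by rw [det_affine h]; linear_combination p.2⟩, ?_⟩ : cen g))
      ⟨fun p p' e => ?_, fun s => ?_⟩)).symm
  · show (p.1.1 • (1 : Matrix (Fin 2) (Fin 2) F) + p.1.2 • g) * g = g * (p.1.1 • (1 : Matrix (Fin 2) (Fin 2) F) + p.1.2 • g)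
    rw [add_mul, mul_add, smul_mul_assoc, smul_mul_assoc, mul_smul_comm, mul_smul_comm, one_mul, mul_one]
  · have e' := affine_inj h h2 hd (congrArg (fun x : cen g => ((x : Matrix.SpecialLinearGroup (Fin 2) F) : Matrix (Fin 2) (Fin 2) F)) e)
    exact Subtype.ext (Prod.ext e'.1 e'.2)
  · obtain ⟨a, b, e, hab⟩ := exists_coord h h2 hd s.2
    exact ⟨⟨(a, b), by linear_combination hab⟩, Subtype.ext (Subtype.ext e.symm)⟩

end Count

/-- The torus of a unimodular trace zero matrix is cyclic. -/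
theorem isCyclic_cen [Finite F] {S : Matrix.SpecialLinearGroup (Fin 2) F} (h : Tr0 (S : Matrix (Fin 2) (Fin 2) F)) (h2 : (2 : F) ≠ 0) :
    IsCyclic (cen (S : Matrix (Fin 2) (Fin 2) F)) := by
  have hns : CfsgLib.PLocal.SLTwo.NonScalar S := by
    rintro ⟨e1, e2, e3⟩
    have hd := S.2
    rw [Matrix.det_fin_two, e1, e2] at hd
    have h' : (S : Matrix (Fin 2) (Fin 2) F) 1 1 = -(S : Matrix (Fin 2) (Fin 2) F) 0 0 := h
    have h0 : (S : Matrix (Fin 2) (Fin 2) F) 0 0 * 2 = 0 := by linear_combination e3 + h'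
    rw [(mul_eq_zero.1 h0).resolve_right h2] at hd
    simp at hd
  have htr : CfsgLib.PLocal.SLTwo.tr S = 0 := by
    have h' : (S : Matrix (Fin 2) (Fin 2) F) 1 1 = -(S : Matrix (Fin 2) (Fin 2) F) 0 0 := h
    rw [CfsgLib.PLocal.SLTwo.tr, h', add_neg_cancel]
  haveI := CfsgLib.Classical.Two.isCyclic_centralizer hns (by
    rw [htr, zero_pow two_ne_zero]
    intro e
    exact mul_ne_zero h2 h2 (by linear_combination -e))
  refine Subgroup.isCyclic_of_le (H' := Subgroup.centralizer ({S} : Set (Matrix.SpecialLinearGroup (Fin 2) F))) fun s hs => ?_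
  rw [Subgroup.mem_centralizer_singleton_iff]
  exact Subtype.ext (by rw [coe_mul', coe_mul']; exact hs)

end CfsgLib.GW.Dne.Tori
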