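import Cfsg.Agent.Lib.GW.KFactsProof.Shape
import Cfsg.Agent.Lib.GW.Dne.Components.Tori

/-!
# Involution centralisers in the linear shape

`inverts`: an involution commuting with an inner involution `t` and different from it inverts the
odd part of the centraliser of `t` in `L`.  `outer_torus`: an outer involution has a non-trivial
torus inverted by a commuting inner one.  `coprime_tori`: the two tori have coprime orders.
-/

set_option autoImplicit false

namespace CfsgLib.GW.Dne.Lin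

open Subgroup Matrix
open CfsgLib.GW.KFactsProof
open CfsgLib.Known.AutPSL
open CfsgLib.GW.Dne.Tori
open CfsgLib.Signalizer (involution_sq involution_ne_one)

variable {F : Type*} [Field F] [Fintype F]

omit [Fintype F] in
theorem slConjHom_refl (g : GL (Fin 2) F) (s : SL 2 F) :
    (slConjHom g (RingEquiv.refl F) s : Matrix (Fin 2) (Fin 2) F) =
      (g : Matrix (Fin 2) (Fin 2) F) * (s : Matrix (Fin 2) (Fin 2) F) *
        ((g⁻¹ : GL (Fin 2) F) : Matrix (Fin 2) (Fin 2) F) := by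
  rw [coe_slConjHom]
  congr 2

theorem semilin_eq_of_smul {g h : GL (Fin 2) F} {b : F}
    (e : (g : Matrix (Fin 2) (Fin 2) F) = b • (h : Matrix (Fin 2) (Fin 2) F)) :
    semilin g (RingEquiv.refl F) = semilin h (RingEquiv.refl F) := by
  rw [← mkAut_false, ← mkAut_false, eq_comm, mkAut_eq_iff le_rfl (fun _ => ⟨rfl, rfl⟩)]
  exact ⟨rfl, rfl, b, e⟩

omit [Fintype F] in
theorem conj_coe_of_commute {g : GL (Fin 2) F} {M : Matrix (Fin 2) (Fin 2) F}
    (h : (g : Matrix (Fin 2) (Fin 2) F) * M = M * (g : Matrix (Fin 2) (Fin 2) F)) :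
    (g : Matrix (Fin 2) (Fin 2) F) * M * ((g⁻¹ : GL (Fin 2) F) : Matrix (Fin 2) (Fin 2) F) = M := by
  rw [h, mul_assoc, Units.mul_inv, mul_one]

omit [Fintype F] in
theorem det_ne_zero (g : GL (Fin 2) F) : (g : Matrix (Fin 2) (Fin 2) F).det ≠ 0 :=
  Matrix.GeneralLinearGroup.det_ne_zero g

omit [Fintype F] in
theorem det_toGL_ne_zero (S : SL 2 F) : (S : Matrix (Fin 2) (Fin 2) F).det ≠ 0 := by
  rw [S.2]; exact one_ne_zero

theorem exists_gl {α : MulAut (PSL 2 F)} (hα : fld α = 1) : ∃ g : GL (Fin 2) F, α = semilin g (RingEquiv.refl F) := by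
  obtain ⟨g, σ, rfl⟩ := exists_semilin α
  rw [fld_semilin] at hα
  exact ⟨g, by rw [show σ = RingEquiv.refl F from hα]⟩

omit [Fintype F] in
theorem glMap_refl (g : GL (Fin 2) F) : glMap (RingEquiv.refl F) g = g := by
  refine Units.ext ?_
  rw [coe_glMap]
  exact Matrix.map_id _

theorem exists_inv_rep {α : MulAut (PSL 2 F)} (hα : fld α = 1) (h1 : α ≠ 1) (h2 : α * α = 1) :
    ∃ g : GL (Fin 2) F, α = semilin g (RingEquiv.refl F) ∧ Tr0 (g : Matrix (Fin 2) (Fin 2) F) := by
  obtain ⟨g, rfl⟩ := exists_gl hα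
  refine ⟨g, rfl, ?_⟩
  have hsq := h2
  rw [semilin_mul, glMap_refl, show (RingEquiv.refl F).trans (RingEquiv.refl F) = RingEquiv.refl F from rfl,
    semilin_eq_one_iff le_rfl] at hsq
  obtain ⟨-, c, hc⟩ := hsq
  refine tr0_of_sq (c := c) (fun a ha => h1 ?_) hc
  rw [semilin_eq_one_iff le_rfl]
  exact ⟨rfl, a, ha⟩

omit [Fintype F] in
theorem exists_sl_rep {z : (PSL 2 F)} (h : orderOf z = 2) :
    ∃ S : SL 2 F, proj 2 F S = z ∧ Tr0 (S : Matrix (Fin 2) (Fin 2) F) := by
  obtain ⟨S, rfl⟩ := proj_surjective z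
  refine ⟨S, rfl, ?_⟩
  have h1 : proj 2 F 1 = proj 2 F (S * S) := by
    rw [map_one, map_mul, involution_sq h]
  obtain ⟨c, -, hc⟩ := (proj_eq_iff _ _).1 h1
  refine tr0_of_sq (c := c) (fun a ha => involution_ne_one h ?_) ?_
  · rw [← map_one (proj 2 F), eq_comm, proj_eq_iff]
    refine ⟨a, fun e => ?_, ?_⟩
    · exact det_toGL_ne_zero S (by rw [ha, e, zero_smul, Matrix.det_zero])
    · rw [ha]; rfl
  · exact hc

/-- An inner-diagonal automorphism fixing the image of `s` commutes or anticommutes with `s`. -/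
theorem fix_cases {g : GL (Fin 2) F} {s : SL 2 F}
    (h : semilin g (RingEquiv.refl F) (proj 2 F s) = proj 2 F s) :
    (g : Matrix (Fin 2) (Fin 2) F) * (s : Matrix (Fin 2) (Fin 2) F) = (s : Matrix (Fin 2) (Fin 2) F) * (g : Matrix (Fin 2) (Fin 2) F) ∨
      (g : Matrix (Fin 2) (Fin 2) F) * (s : Matrix (Fin 2) (Fin 2) F) = -((s : Matrix (Fin 2) (Fin 2) F) * (g : Matrix (Fin 2) (Fin 2) F)) := by
  rw [semilin_proj, proj_eq_iff] at h
  obtain ⟨c, hc0, hc⟩ := h
  rw [slConjHom_refl] at hc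
  have hd := congrArg Matrix.det hc
  rw [Matrix.det_smul, Matrix.det_mul, Matrix.det_mul, s.2, mul_one, ← Matrix.det_mul, Units.mul_inv,
    Matrix.det_one, mul_one, Fintype.card_fin] at hd
  have key : (s : Matrix (Fin 2) (Fin 2) F) * (g : Matrix (Fin 2) (Fin 2) F) =
      c • ((g : Matrix (Fin 2) (Fin 2) F) * (s : Matrix (Fin 2) (Fin 2) F)) := by
    nth_rewrite 1 [hc]
    rw [smul_mul_assoc, mul_assoc, Units.inv_mul, mul_one]
  rcases (sq_eq_one_iff.1 hd.symm) with rfl | rfl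
  · exact Or.inl (by rw [key, one_smul])
  · exact Or.inr (by rw [key, neg_one_smul, neg_neg])

omit [Fintype F] in
theorem proj_fix_of_commute {g : GL (Fin 2) F} {s : SL 2 F}
    (h : (g : Matrix (Fin 2) (Fin 2) F) * (s : Matrix (Fin 2) (Fin 2) F) = (s : Matrix (Fin 2) (Fin 2) F) * (g : Matrix (Fin 2) (Fin 2) F)) :
    semilin g (RingEquiv.refl F) (proj 2 F s) = proj 2 F s := by
  rw [semilin_proj]
  congr 1
  exact Subtype.ext (by rw [slConjHom_refl, conj_coe_of_commute h])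

theorem proj_inv_of_anti {g : GL (Fin 2) F} {S s : SL 2 F} (hS : Tr0 (S : Matrix (Fin 2) (Fin 2) F))
    (h2 : (2 : F) ≠ 0)
    (h : (g : Matrix (Fin 2) (Fin 2) F) * (S : Matrix (Fin 2) (Fin 2) F) = -((S : Matrix (Fin 2) (Fin 2) F) * (g : Matrix (Fin 2) (Fin 2) F)))
    (hs : s ∈ cen (S : Matrix (Fin 2) (Fin 2) F)) :
    semilin g (RingEquiv.refl F) (proj 2 F s) = (proj 2 F s)⁻¹ := by
  rw [semilin_proj, ← map_inv]
  congr 1
  refine Subtype.ext ?_
  rw [slConjHom_refl, anti_inverts hS h2 (det_toGL_ne_zero S) h hs, mul_assoc, Units.mul_inv, mul_one]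

variable {n : ℕ} {K : Type*} [Group K] [Finite K] {L : Subgroup K} [hLn : L.Normal] {e : L ≃* (PSL 2 F)}

theorem apply_of_commute {k : K} {x : L} (h : Commute k (x : K)) : toAut L e k (e x) = e x := by
  rw [toAut_apply]
  refine congrArg e (Subtype.ext ?_)
  show k * (x : K) * k⁻¹ = x
  rw [h.eq, mul_inv_cancel_right]

variable (A : Ambient n K) (hK : IsLin L e)
include hK

/-- Inverted elements of odd order are inner. -/
theorem mem_of_inverted {k x : K} (ho : Odd (orderOf x)) (h : k * x * k⁻¹ = x⁻¹) : x ∈ L := by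
  refine mem_of_inn hK (mem_inn_of_odd ho (by rw [← map_pow, pow_orderOf_eq_one, map_one]) ?_)
  set s := fld (toAut L e x) with hs
  haveI := isCyclic_ringAut (F := F)
  have h' := congrArg (fun y => fld (toAut L e y)) h
  simp only [map_mul, map_inv] at h'
  letI := IsCyclic.commGroup (α := F ≃+* F)
  rw [mul_inv_cancel_comm] at h'
  have h2 : s * s = 1 := by nth_rw 2 [show s = s⁻¹ from h']; rw [mul_inv_cancel]
  obtain ⟨m, hm⟩ := ho
  have := congrArg (fun y => fld (toAut L e y)) (pow_orderOf_eq_one x)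
  simp only [map_pow, map_one] at this
  rwa [← hs, hm, pow_succ, pow_mul, pow_two, h2, one_pow, one_mul] at this

/-- The matrix of an element of odd order centralising an inner involution. -/
theorem exists_cen_rep {t : L} (ht : orderOf t = 2) {x : L} (ho : Odd (orderOf x)) (hxt : Commute x t)
    {S : SL 2 F} (hS : proj 2 F S = e t) (hS0 : Tr0 (S : Matrix (Fin 2) (Fin 2) F)) :
    ∃ s : SL 2 F, s ∈ cen (S : Matrix (Fin 2) (Fin 2) F) ∧ proj 2 F s = e x := by
  obtain ⟨s, hs⟩ := proj_surjective (e x)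
  refine ⟨s, ?_, hs⟩
  have h2 := two_ne_zero_of_odd' hK.odd
  have hfix : semilin (SpecialLinearGroup.toGL S) (RingEquiv.refl F) (proj 2 F s) = proj 2 F s := by
    rw [← conj_eq_semilin, hS, hs, MulAut.conj_apply, ← map_inv, ← map_mul, ← map_mul, ← hxt.eq,
      mul_inv_cancel_right]
  rcases fix_cases hfix with h | h
  · exact h.symm
  · have h' : (s : Matrix (Fin 2) (Fin 2) F) * (S : Matrix (Fin 2) (Fin 2) F) =
        -((S : Matrix (Fin 2) (Fin 2) F) * (s : Matrix (Fin 2) (Fin 2) F)) := by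
      rw [show (S : Matrix (Fin 2) (Fin 2) F) * (s : Matrix (Fin 2) (Fin 2) F) = -((s : Matrix (Fin 2) (Fin 2) F) * (S : Matrix (Fin 2) (Fin 2) F)) from h, neg_neg]
    have hs0 := tr0_of_anti hS0 h2 (det_toGL_ne_zero S) h'
    have hx2 : x * x = 1 := by
      apply e.injective
      rw [map_mul, map_one, ← hs, ← map_mul, ← map_one (proj 2 F), eq_comm, proj_eq_iff]
      refine ⟨-1, by simp, ?_⟩
      show (s : Matrix (Fin 2) (Fin 2) F) * s = (-1 : F) • (1 : Matrix (Fin 2) (Fin 2) F)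
      rw [mul_self hs0, s.2]
    have hx1 : x = 1 := orderOf_eq_one_iff.1 (Nat.eq_one_of_dvd_coprimes (Nat.coprime_two_left.2 ho)
      (orderOf_dvd_of_pow_eq_one (by rw [pow_two, hx2])) dvd_rfl)
    rw [hx1, map_one, ← map_one (proj 2 F), eq_comm, proj_eq_iff] at hs
    obtain ⟨c, -, hc⟩ := hs
    show (s : Matrix (Fin 2) (Fin 2) F) * (S : Matrix (Fin 2) (Fin 2) F) = (S : Matrix (Fin 2) (Fin 2) F) * s
    rw [hc, show ((1 : SL 2 F) : Matrix (Fin 2) (Fin 2) F) = 1 from rfl, smul_mul_assoc, mul_smul_comm,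
      one_mul, mul_one]

include A

/-- The automorphism of an involution centralising `t`. -/
theorem exists_anti_rep {t : L} (ht : orderOf t = 2) {i : K} (hi : orderOf i = 2) (hit : Commute i (t : K))
    (hne : i ≠ (t : K)) {S : SL 2 F} (hS : proj 2 F S = e t) (hS0 : Tr0 (S : Matrix (Fin 2) (Fin 2) F)) :
    ∃ g : GL (Fin 2) F, toAut L e i = semilin g (RingEquiv.refl F) ∧
      Tr0 (g : Matrix (Fin 2) (Fin 2) F) ∧
      (g : Matrix (Fin 2) (Fin 2) F) * (S : Matrix (Fin 2) (Fin 2) F) =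
        -((S : Matrix (Fin 2) (Fin 2) F) * (g : Matrix (Fin 2) (Fin 2) F)) := by
  have h2 := two_ne_zero_of_odd' hK.odd
  have hinj := toAut_injective hK
  obtain ⟨g, hg, hg0⟩ := exists_inv_rep (A.fld_eq_one_of_sq hK (involution_sq hi))
    (fun h => involution_ne_one hi (hinj (h.trans (map_one _).symm)))
    (by rw [← map_mul, involution_sq hi, map_one])
  refine ⟨g, hg, hg0, ?_⟩
  have hfix : semilin g (RingEquiv.refl F) (proj 2 F S) = proj 2 F S := by
    rw [hS, ← hg]; exact apply_of_commute hit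
  refine (fix_cases hfix).resolve_left fun h => hne (hinj ?_)
  obtain ⟨a, b, hab⟩ := exists_affine hS0 h2 (det_toGL_ne_zero S) h
  have ha : a = 0 := by
    have e1 : (g : Matrix (Fin 2) (Fin 2) F) 1 1 = -(g : Matrix (Fin 2) (Fin 2) F) 0 0 := hg0
    have e2 : (S : Matrix (Fin 2) (Fin 2) F) 1 1 = -(S : Matrix (Fin 2) (Fin 2) F) 0 0 := hS0
    rw [hab] at e1
    simp [e2] at e1
    have h0 : a * 2 = 0 := by linear_combination e1
    simpa [h2] using h0
  rw [hg, toAut_of_mem, ← hS, conj_eq_semilin]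
  refine semilin_eq_of_smul (b := b) ?_
  rw [hab, ha, zero_smul, zero_add]
  rfl

/-- An involution centralising `t`, other than `t`, inverts the odd part of `C_L(t)`. -/
theorem inverts {t : L} (ht : orderOf t = 2) {x : L} (ho : Odd (orderOf x)) (hxt : Commute x t) {i : K}
    (hi : orderOf i = 2) (hit : Commute i (t : K)) (hne : i ≠ (t : K)) :
    i * (x : K) * i⁻¹ = (x : K)⁻¹ := by
  obtain ⟨S, hS, hS0⟩ := exists_sl_rep (z := e t) ((e.orderOf_eq t).trans ht)
  obtain ⟨g, hg, -, hanti⟩ := exists_anti_rep A hK ht hi hit hne hS hS0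
  obtain ⟨s, hs, hsx⟩ := exists_cen_rep hK ht ho hxt hS hS0
  have h := proj_inv_of_anti hS0 (two_ne_zero_of_odd' hK.odd) hanti hs
  rw [← hg, hsx, toAut_apply, ← map_inv] at h
  exact congrArg Subtype.val (e.injective h)

/-- A non-trivial torus of an outer involution. -/
theorem outer_torus {t : L} (ht : orderOf t = 2) {i : K} (hi : orderOf i = 2) (hit : Commute i (t : K))
    (hiL : i ∉ L) : ∃ x : L, x ≠ 1 ∧ Odd (orderOf x) ∧ Commute (x : K) i ∧ t * x * t⁻¹ = x⁻¹ := by
  classical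
  obtain ⟨S, hS, hS0⟩ := exists_sl_rep (z := e t) ((e.orderOf_eq t).trans ht)
  obtain ⟨g, hg, hg0, hanti⟩ := exists_anti_rep A hK ht hi hit (fun h => hiL (h ▸ t.2)) hS hS0
  have h2 := two_ne_zero_of_odd' hK.odd
  have hnsq : ¬ IsSquare ((g : Matrix (Fin 2) (Fin 2) F).det) := by
    rintro ⟨c, hc⟩
    refine hiL (mem_of_inn hK ?_)
    rw [hg, ← mkAut_false, mem_inn_iff le_rfl _ _ _ (fun _ => rfl)]
    have hc0 : c ≠ 0 := fun h => det_ne_zero g (by rw [hc, h, mul_zero])
    exact ⟨rfl, rfl, Units.mk0 c hc0, Units.ext (by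
      rw [Units.val_pow_eq_pow_val, Units.val_mk0, pow_two]
      exact hc)⟩
  have hcard := card_cen hg0 h2 (det_ne_zero g)
  have hbig : 2 < Nat.card (cen (g : Matrix (Fin 2) (Fin 2) F)) := by
    have := hK.four_le
    rcases quadraticChar_dichotomy (neg_ne_zero.2 (det_ne_zero g)) with h | h <;> rw [h] at hcard <;> omega
  obtain ⟨s, hs, hs1, hs2⟩ : ∃ s ∈ cen (g : Matrix (Fin 2) (Fin 2) F), s ≠ 1 ∧ s ≠ -1 := by
    by_contra hno
    push Not at hno
    have hsub : ((cen (g : Matrix (Fin 2) (Fin 2) F) : Subgroup _) : Set (SL 2 F)) ⊆ {1, -1} := by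
      intro s hs
      by_cases h : s = 1
      · exact Or.inl h
      · exact Or.inr (hno s hs h)
    have h4 : ({1, -1} : Set (SL 2 F)).ncard ≤ 2 := by
      refine (Set.ncard_insert_le _ _).trans ?_
      rw [Set.ncard_singleton]
    have := (Set.ncard_le_ncard hsub (Set.toFinite _)).trans h4
    rw [← Nat.card_coe_set_eq] at this
    exact absurd this (not_le.2 hbig)
  refine ⟨e.symm (proj 2 F s), ?_, ?_, ?_, ?_⟩
  · intro h
    have h' := congrArg e h
    rw [e.apply_symm_apply, map_one, ← map_one (proj 2 F), eq_comm, proj_eq_iff] at h'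
    obtain ⟨c, -, hc⟩ := h'
    have hd := congrArg Matrix.det hc
    rw [s.2, Matrix.det_smul, show ((1 : SL 2 F) : Matrix (Fin 2) (Fin 2) F) = 1 from rfl, Matrix.det_one,
      mul_one, Fintype.card_fin] at hd
    rcases sq_eq_one_iff.1 hd.symm with rfl | rfl
    · exact hs1 (Subtype.ext (by rw [hc, one_smul]))
    · exact hs2 (Subtype.ext (by
        rw [hc, show ((1 : SL 2 F) : Matrix (Fin 2) (Fin 2) F) = 1 from rfl]
        simp [neg_one_smul]))
  · rw [e.symm.orderOf_eq, ← Nat.not_even_iff_odd]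
    rintro ⟨m, hm⟩
    have hz2 : proj 2 F (s ^ m) * proj 2 F (s ^ m) = 1 := by
      rw [← map_mul, ← pow_add, ← hm, map_pow, pow_orderOf_eq_one]
    obtain ⟨a, b, hab, hdet⟩ := exists_coord hg0 h2 (det_ne_zero g) (pow_mem hs m)
    rw [← map_mul, ← map_one (proj 2 F), eq_comm, proj_eq_iff] at hz2
    obtain ⟨c, -, hc⟩ := hz2
    rw [coe_mul', hab, show ((1 : SL 2 F) : Matrix (Fin 2) (Fin 2) F) = 1 from rfl] at hc
    rcases coord_of_sq_scalar hg0 h2 (det_ne_zero g) hc with h0 | h0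
    · rw [h0, zero_pow two_ne_zero, zero_add] at hdet
      have hb : b ≠ 0 := fun h => by simp [h] at hdet
      exact hnsq ⟨b⁻¹, by field_simp; linear_combination hdet⟩
    · have h1 : proj 2 F (s ^ m) = 1 := by
        rw [← map_one (proj 2 F), eq_comm, proj_eq_iff]
        refine ⟨a, fun h => by simp [h0, h] at hdet, ?_⟩
        rw [hab, h0, zero_smul, add_zero]
        rfl
      have hpos := orderOf_pos (proj 2 F s)
      rw [map_pow] at h1
      have := Nat.le_of_dvd (by omega) (orderOf_dvd_of_pow_eq_one h1)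
      omega
  · have h := proj_fix_of_commute (show (g : Matrix (Fin 2) (Fin 2) F) * (s : Matrix (Fin 2) (Fin 2) F) = _ from hs.symm)
    rw [← hg, ← e.apply_symm_apply (proj 2 F s), toAut_apply] at h
    have h' : i * ((e.symm (proj 2 F s) : L) : K) * i⁻¹ = ((e.symm (proj 2 F s) : L) : K) :=
      congrArg Subtype.val (e.injective h)
    exact ((mul_inv_eq_iff_eq_mul.1 h' : Commute i _)).symm
  · apply e.injective
    rw [map_mul, map_mul, map_inv, map_inv, e.apply_symm_apply, ← hS]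
    have hanti' : (S : Matrix (Fin 2) (Fin 2) F) * (g : Matrix (Fin 2) (Fin 2) F) =
        -((g : Matrix (Fin 2) (Fin 2) F) * (S : Matrix (Fin 2) (Fin 2) F)) := by rw [hanti, neg_neg]
    rw [← map_inv, ← map_inv, ← map_mul, ← map_mul]
    congr 1
    refine Subtype.ext ?_
    rw [coe_mul', coe_mul', anti_inverts hg0 h2 (det_ne_zero g) hanti' hs, mul_assoc, ← coe_mul',
      mul_inv_cancel, coe_one', mul_one]

omit A in
omit [Finite K] in
theorem order_dvd {r k : ℕ} (hr : r.Prime) {g : Matrix (Fin 2) (Fin 2) F} {s : SL 2 F} (hs : s ∈ cen g)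
    {x : L} (hx : proj 2 F s = e x) (hx1 : x ≠ 1) (hxr : x ^ r ^ k = 1) : r ∣ Nat.card (cen g) := by
  obtain ⟨j, -, hj⟩ := (Nat.dvd_prime_pow hr).1 (orderOf_dvd_of_pow_eq_one hxr)
  have hj0 : j ≠ 0 := fun h => hx1 (orderOf_eq_one_iff.1 (by rw [hj, h, pow_zero]))
  have h1 : r ∣ orderOf (proj 2 F s) := by rw [hx, e.orderOf_eq, hj]; exact dvd_pow_self r hj0
  refine h1.trans ((orderOf_map_dvd _ _).trans ?_)
  rw [← Subgroup.orderOf_mk s hs]
  exact orderOf_dvd_natCard _

/-- The tori of an inner and of an outer involution have coprime orders. -/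
theorem coprime_tori {r : ℕ} (hr : r.Prime) (hr2 : r ≠ 2) {t i : K} (ht : orderOf t = 2) (htL : t ∉ L)
    {i' : L} (hi : orderOf i' = 2) (hii : (i' : K) = i) (hit : Commute t i) {x y : L}
    (hxr : ∃ k : ℕ, x ^ r ^ k = 1) (hyr : ∃ k : ℕ, y ^ r ^ k = 1) (hxt : Commute (x : K) t)
    (hyi : Commute y i') : x = 1 ∨ y = 1 := by
  classical
  by_contra hno
  push Not at hno
  obtain ⟨hx1, hy1⟩ := hno
  subst hii
  have hodd : ∀ z : L, (∃ k : ℕ, z ^ r ^ k = 1) → Odd (orderOf z) := fun z ⟨k, hk⟩ =>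
    ((hr.odd_of_ne_two hr2).pow).of_dvd_nat (orderOf_dvd_of_pow_eq_one hk)
  obtain ⟨S, hS, hS0⟩ := exists_sl_rep (z := e i') ((e.orderOf_eq i').trans hi)
  obtain ⟨g, hg, hg0, hanti⟩ := exists_anti_rep A hK hi ht hit (fun h => htL (h ▸ i'.2)) hS hS0
  have h2 := two_ne_zero_of_odd' hK.odd
  have hnsq : ¬ IsSquare ((g : Matrix (Fin 2) (Fin 2) F).det) := by
    rintro ⟨c, hc⟩
    refine htL (mem_of_inn hK ?_)
    rw [hg, ← mkAut_false, mem_inn_iff le_rfl _ _ _ (fun _ => rfl)]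
    have hc0 : c ≠ 0 := fun h => det_ne_zero g (by rw [hc, h, mul_zero])
    exact ⟨rfl, rfl, Units.mk0 c hc0, Units.ext (by
      rw [Units.val_pow_eq_pow_val, Units.val_mk0, pow_two]
      exact hc)⟩
  obtain ⟨k, hk⟩ := hyr
  obtain ⟨sy, hsy, hsye⟩ := exists_cen_rep hK hi (hodd y ⟨k, hk⟩) hyi hS hS0
  have d1 := order_dvd hK hr hsy hsye hy1 hk
  obtain ⟨l, hl⟩ := hxr
  obtain ⟨sx, hsxe⟩ := proj_surjective (e x)
  have hfix : semilin g (RingEquiv.refl F) (proj 2 F sx) = proj 2 F sx := by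
    rw [hsxe, ← hg]; exact apply_of_commute hxt.symm
  have hsx : sx ∈ cen (g : Matrix (Fin 2) (Fin 2) F) := by
    rcases fix_cases hfix with h | h
    · exact h.symm
    · exfalso
      have h' : (sx : Matrix (Fin 2) (Fin 2) F) * (g : Matrix (Fin 2) (Fin 2) F) =
          -((g : Matrix (Fin 2) (Fin 2) F) * (sx : Matrix (Fin 2) (Fin 2) F)) := by
        rw [h, neg_neg]
      have hs0 := tr0_of_anti hg0 h2 (det_ne_zero g) h'
      have hx2 : x * x = 1 := by
        apply e.injective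
        rw [map_mul, map_one, ← hsxe, ← map_mul, ← map_one (proj 2 F), eq_comm, proj_eq_iff]
        refine ⟨-1, by simp, ?_⟩
        show (sx : Matrix (Fin 2) (Fin 2) F) * sx = (-1 : F) • (1 : Matrix (Fin 2) (Fin 2) F)
        rw [mul_self hs0, sx.2]
      exact hx1 (orderOf_eq_one_iff.1 (Nat.eq_one_of_dvd_coprimes (Nat.coprime_two_left.2 (hodd x ⟨l, hl⟩))
        (orderOf_dvd_of_pow_eq_one (by rw [pow_two, hx2])) dvd_rfl))
  have d2 := order_dvd hK hr hsx hsxe hx1 hl
  have c1 := card_cen hS0 h2 (det_toGL_ne_zero S)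
  have c2 := card_cen hg0 h2 (det_ne_zero g)
  rw [S.2] at c1
  rw [show -(g : Matrix (Fin 2) (Fin 2) F).det = (-1) * (g : Matrix (Fin 2) (Fin 2) F).det by ring, map_mul,
    quadraticChar_neg_one_iff_not_isSquare.2 hnsq] at c2
  have e1 : (r : ℤ) ∣ Nat.card (cen (S : Matrix (Fin 2) (Fin 2) F)) := Int.natCast_dvd_natCast.2 d1
  have e2 : (r : ℤ) ∣ Nat.card (cen (g : Matrix (Fin 2) (Fin 2) F)) := Int.natCast_dvd_natCast.2 d2
  rw [c1] at e1; rw [c2] at e2
  have e3 : (r : ℤ) ∣ 2 * quadraticChar F (-1) := by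
    have := dvd_sub e2 e1
    rwa [show (Fintype.card F : ℤ) - quadraticChar F (-1) * -1 - (Fintype.card F - quadraticChar F (-1)) =
      2 * quadraticChar F (-1) by ring] at this
  have hrl : (r : ℤ) ∣ 2 := by
    rcases quadraticChar_dichotomy (F := F) (neg_ne_zero.2 one_ne_zero) with h | h <;> rw [h] at e3 <;>
      simpa using e3
  exact hr2 ((Nat.prime_dvd_prime_iff_eq hr Nat.prime_two).1 (by exact_mod_cast hrl))

end CfsgLib.GW.Dne.Lin
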