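import Cfsg.Agent.Lib.GW.Dne.Components.Cover
import Cfsg.Agent.Lib.GW.Dne.Components.FieldTorus
import Cfsg.Agent.Lib.GW.Dne.SevenFacts

/-!
# Facts inside the linear shape and inside `A₇` used for the component facts

Cyclicity of the odd part of the centraliser of an involution, and the product of two
outer-diagonal elements.
-/

set_option autoImplicit false

namespace CfsgLib.GW.Dne.Lin

open Subgroup Matrix
open CfsgLib.GW.KFactsProof
open CfsgLib.Known.AutPSL
open CfsgLib.GW.Dne.Tori
open CfsgLib.Signalizer (involution_sq involution_ne_one)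

variable {F : Type*} [Field F] [Fintype F] {K : Type*} [Group K] [Finite K] {L : Subgroup K}
  [hLn : L.Normal] {e : L ≃* PSL 2 F}

/-- Elements of odd order of `L` centralising an inner involution form a cyclic group. -/
theorem cyclic_torus (hK : IsLin L e) {t : L} (ht : orderOf t = 2) {W : Subgroup K}
    (hW : ∀ x ∈ W, x ∈ L ∧ Odd (orderOf x) ∧ Commute x (t : K)) : IsCyclic W := by
  classical
  obtain ⟨S, hS, hS0⟩ := exists_sl_rep (z := e t) ((e.orderOf_eq t).trans ht)
  set T := cen (S : Matrix (Fin 2) (Fin 2) F) with hT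
  haveI : IsCyclic T := isCyclic_cen hS0 (two_ne_zero_of_odd' hK.odd)
  let φ : T →* K := L.subtype.comp (e.symm.toMonoidHom.comp ((proj 2 F).comp T.subtype))
  haveI : IsCyclic φ.range := isCyclic_of_surjective φ.rangeRestrict φ.rangeRestrict_surjective
  refine isCyclic_of_le (H' := φ.range) fun x hx => ?_
  obtain ⟨hxL, hxo, hxt⟩ := hW x hx
  obtain ⟨s, hs, hse⟩ := exists_cen_rep hK ht (x := ⟨x, hxL⟩) (by rw [Subgroup.orderOf_mk]; exact hxo)
    (Subtype.ext hxt.eq) hS hS0
  exact ⟨⟨s, hs⟩, (congrArg Subtype.val (congrArg e.symm hse)).trans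
    (congrArg Subtype.val (e.symm_apply_apply _))⟩

/-- Two outer-diagonal elements have an inner product. -/
theorem mul_mem_of_fld (hK : IsLin L e) {a b : K} (ha : fld (toAut L e a) = 1)
    (hb : fld (toAut L e b) = 1) (haL : a ∉ L) (hbL : b ∉ L) : a * b ∈ L := by
  classical
  have rep : ∀ c : K, fld (toAut L e c) = 1 → c ∉ L → ∃ g : GL (Fin 2) F,
      toAut L e c = semilin g (RingEquiv.refl F) ∧
        quadraticChar F (g : Matrix (Fin 2) (Fin 2) F).det = -1 := by
    intro c hc hcL
    obtain ⟨g, σ, hg⟩ := exists_semilin (toAut L e c)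
    obtain rfl : σ = RingEquiv.refl F := by rw [← fld_semilin g σ, ← hg, hc]; rfl
    refine ⟨g, hg, quadraticChar_neg_one_iff_not_isSquare.2 ?_⟩
    rintro ⟨d, hd⟩
    refine hcL (mem_of_inn hK ?_)
    rw [hg, ← mkAut_false, mem_inn_iff le_rfl _ _ _ (fun _ => rfl)]
    have hd0 : d ≠ 0 := fun h => det_ne_zero g (by rw [hd, h, mul_zero])
    exact ⟨rfl, rfl, Units.mk0 d hd0, Units.ext (by
      rw [Units.val_pow_eq_pow_val, Units.val_mk0, pow_two]
      exact hd)⟩
  obtain ⟨g, hg, hgd⟩ := rep a ha haL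
  obtain ⟨h, hh, hhd⟩ := rep b hb hbL
  refine mem_of_inn hK ?_
  rw [map_mul, hg, hh, ← innDiag_apply, ← innDiag_apply, ← map_mul, innDiag_apply, ← mkAut_false,
    mem_inn_iff le_rfl _ _ _ (fun _ => rfl)]
  have hsq : IsSquare ((g : Matrix (Fin 2) (Fin 2) F).det * (h : Matrix (Fin 2) (Fin 2) F).det) := by
    rw [← quadraticChar_one_iff_isSquare (mul_ne_zero (det_ne_zero g) (det_ne_zero h)), map_mul, hgd, hhd]
    norm_num
  obtain ⟨d, hd⟩ := hsq
  have hd0 : d ≠ 0 := fun h' => mul_ne_zero (det_ne_zero g) (det_ne_zero h) (by rw [hd, h', mul_zero])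
  refine ⟨rfl, rfl, Units.mk0 d hd0, Units.ext ?_⟩
  rw [map_mul, Units.val_mul, Units.val_pow_eq_pow_val, Units.val_mk0, pow_two]
  exact hd

end CfsgLib.GW.Dne.Lin

namespace CfsgLib.GW.Dne.Comp

open Subgroup

/-- In `A₇` the elements of odd order centralising an involution form a group of order dividing three. -/
theorem seven_cyclic {K : Type*} [Group K] (e : K ≃* alternatingGroup (Fin 7)) {W : Subgroup K} {t : K}
    (ht : orderOf t = 2) (hW : ∀ x ∈ W, Odd (orderOf x) ∧ Commute x t) :
    IsCyclic W ∧ Nat.card W ∣ 3 := by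
  classical
  haveI : Finite K := Finite.of_equiv _ e.symm.toEquiv
  have ht' : orderOf (e t) = 2 := by rw [e.orderOf_eq, ht]
  set S := (((e t : alternatingGroup (Fin 7)) : Equiv.Perm (Fin 7)).support)ᶜ with hS
  have hS3 : S.card = 3 := by
    rw [hS, Finset.card_compl, SevenFacts.support_card ht', Fintype.card_fin]
  have hsupp : ∀ x ∈ W, x ≠ 1 → ((e x : alternatingGroup (Fin 7)) : Equiv.Perm (Fin 7)).support = S :=
    fun x hx hx1 => SevenFacts.support_eq ht' (by rw [e.orderOf_eq]; exact (hW x hx).1)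
      (fun h => hx1 (e.injective (h.trans (map_one e).symm))) ((hW x hx).2.map e.toMonoidHom)
  obtain ⟨c, hc⟩ := Finset.card_pos.1 (show 0 < S.card by omega)
  have hin : ∀ x : W, ((e (x : K) : alternatingGroup (Fin 7)) : Equiv.Perm (Fin 7)) c ∈ S := by
    intro x
    by_cases hx1 : (x : K) = 1
    · rw [hx1, map_one]; exact hc
    · have := hsupp x x.2 hx1
      rw [← this] at hc ⊢
      exact Equiv.Perm.apply_mem_support.2 hc
  let f : W → S := fun x => ⟨_, hin x⟩
  have hf : Function.Injective f := by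
    intro x y h
    by_contra hne
    have h1 : (x : K)⁻¹ * (y : K) ≠ 1 := fun h' => hne (Subtype.ext (inv_mul_eq_one.1 h'))
    have hfix : ((e ((x : K)⁻¹ * (y : K)) : alternatingGroup (Fin 7)) : Equiv.Perm (Fin 7)) c = c := by
      have h' : ((e (x : K) : alternatingGroup (Fin 7)) : Equiv.Perm (Fin 7)) c =
          ((e (y : K) : alternatingGroup (Fin 7)) : Equiv.Perm (Fin 7)) c := congrArg Subtype.val h
      rw [map_mul, map_inv, Subgroup.coe_mul, InvMemClass.coe_inv, Equiv.Perm.mul_apply, ← h']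
      exact Equiv.symm_apply_apply _ c
    rw [← hsupp _ (mul_mem (inv_mem x.2) y.2) h1] at hc
    exact Equiv.Perm.mem_support.1 hc hfix
  haveI : Finite W := Finite.of_injective f hf
  have hle : Nat.card W ≤ 3 := by
    refine (Nat.card_le_card_of_injective f hf).trans ?_
    rw [Nat.card_eq_fintype_card, Fintype.card_coe, hS3]
  have hne2 : Nat.card W ≠ 2 := fun h => by
    haveI : Fact (Nat.Prime 2) := ⟨Nat.prime_two⟩
    obtain ⟨w, hw⟩ := exists_prime_orderOf_dvd_card' (G := W) 2 (by rw [h])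
    have := (hW w w.2).1
    rw [Subgroup.orderOf_coe, hw] at this
    exact absurd this (by decide)
  have hpos : 0 < Nat.card W := Nat.card_pos
  obtain h | h : Nat.card W = 1 ∨ Nat.card W = 3 := by omega
  · haveI : Subsingleton W := (Nat.card_eq_one_iff_unique.1 h).1
    exact ⟨inferInstance, h ▸ one_dvd 3⟩
  · haveI : Fact (Nat.Prime 3) := ⟨Nat.prime_three⟩
    exact ⟨isCyclic_of_prime_card h, h.dvd⟩

end CfsgLib.GW.Dne.Comp
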